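import Cfsg.Agent.H820.K6.Loc
import Cfsg.Agent.H80.K6.Crit
import Cfsg.Agent.H525.AltK

/-!
# S4876: the principal 3-block of `A₆` (helper820)

`rank` : `4 ≤ l(B₀(A₆))`; `out` : at most one irreducible character outside `B₀(A₆)`; `orders` : elements of orders
`1, 2, 4, 5`.
-/

set_option autoImplicit false
set_option maxRecDepth 100000

open Cfsg

namespace Cfsg.Agent.H820.K6.ASix

open Cfsg.Agent.H61.K6 Cfsg.Agent.H80.K6
open Equiv Equiv.Perm

abbrev A6 := alternatingGroup (Fin 6)

def t1 : Perm (Fin 6) := c[0, 1, 2]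
def t2 : Perm (Fin 6) := c[0, 1, 2] * c[3, 4, 5]
def s1 : Perm (Fin 6) := c[3, 4]
def s2 : Perm (Fin 6) := c[0, 3] * c[1, 4] * c[2, 5]

theorem cen1 : ∀ g : Perm (Fin 6), g * t1 = t1 * g → sign g = 1 → g * g * g = 1 := by decide +kernel
theorem cen2 : ∀ g : Perm (Fin 6), g * t2 = t2 * g → sign g = 1 → g * g * g = 1 := by decide +kernel

theorem st1 : s1 * t1 = t1 * s1 := by decide +kernel
theorem st2 : s2 * t2 = t2 * s2 := by decide +kernel
theorem sgs1 : sign s1 = -1 := by decide +kernel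
theorem sgs2 : sign s2 = -1 := by decide +kernel
theorem sgt1 : sign t1 = 1 := by decide +kernel
theorem sgt2 : sign t2 = 1 := by decide +kernel
theorem ct1 : t1.cycleType = {3} := by decide +kernel
theorem ct2 : t2.cycleType = {3, 3} := by decide +kernel

theorem card_A6 : Nat.card A6 = 360 := by
  rw [nat_card_alternatingGroup]
  norm_num [Nat.factorial]

/-- conjugation in `S₆` can be done in `A₆` -/
theorem isConj_of {t s : Perm (Fin 6)} (ht : sign t = 1) (hs : sign s = -1) (hst : s * t = t * s) {x : A6}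
    (h : IsConj (x : Perm (Fin 6)) t) : IsConj x (⟨t, mem_alternatingGroup.2 ht⟩ : A6) := by
  obtain ⟨g, hg⟩ := isConj_iff.1 h
  rcases Int.units_eq_one_or (sign g) with h1 | h1
  · exact isConj_iff.2 ⟨⟨g, mem_alternatingGroup.2 h1⟩, Subtype.ext hg⟩
  · refine isConj_iff.2 ⟨⟨s * g, mem_alternatingGroup.2 (by rw [map_mul, hs, h1]; rfl)⟩, Subtype.ext ?_⟩
    change s * g * (x : Perm (Fin 6)) * (s * g)⁻¹ = t
    calc s * g * (x : Perm (Fin 6)) * (s * g)⁻¹ = s * (g * (x : Perm (Fin 6)) * g⁻¹) * s⁻¹ := by group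
      _ = t * s * s⁻¹ := by rw [hg, hst]
      _ = t := by group

theorem order_three {x : A6} (hx : El 3 x) : orderOf x = 3 := by
  obtain ⟨⟨k, hk⟩, h1⟩ := hx
  have h2 : orderOf x ∣ 360 := by
    rw [← card_A6]
    exact orderOf_dvd_natCard x
  have hk2 : k ≤ 2 := by
    by_contra hcon
    have h3 : 3 ^ 3 ∣ 360 := (pow_dvd_pow 3 (by omega : 3 ≤ k)).trans (hk ▸ h2)
    norm_num at h3
  interval_cases k
  · exact absurd (orderOf_eq_one_iff.1 hk) h1
  · simpa using hk
  · exfalso
    -- no element of order 9 in `S₆`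
    have h4 : orderOf (x : Perm (Fin 6)) = 9 := by rw [Subgroup.orderOf_coe, hk]; norm_num
    have h5 : (9 : ℕ) ∣ (x : Perm (Fin 6)).cycleType.lcm := by rw [lcm_cycleType, h4]
    have h6 : ∀ c ∈ (x : Perm (Fin 6)).cycleType, c ∣ 60 := by
      intro c hc
      have h7 := two_le_of_mem_cycleType hc
      have h8 : c ≤ 6 := by
        have := (Multiset.single_le_sum (fun _ _ => Nat.zero_le _) c hc).trans
          ((sum_cycleType (x : Perm (Fin 6))).le.trans (Finset.card_le_univ _))
        simpa using this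
      interval_cases c <;> norm_num
    have h7 : (x : Perm (Fin 6)).cycleType.lcm ∣ 60 := Multiset.lcm_dvd.2 h6
    have := h5.trans h7
    norm_num at this

theorem classes {x : A6} (hx : El 3 x) : IsConj x (⟨t1, mem_alternatingGroup.2 sgt1⟩ : A6) ∨
    IsConj x (⟨t2, mem_alternatingGroup.2 sgt2⟩ : A6) := by
  have h3 := order_three hx
  have h4 : orderOf (x : Perm (Fin 6)) = 3 := by rw [Subgroup.orderOf_coe, h3]
  have : Fact (Nat.Prime 3) := ⟨Nat.prime_three⟩
  obtain ⟨n, hn⟩ := cycleType_prime_order (σ := (x : Perm (Fin 6))) (by rw [h4]; exact Nat.prime_three)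
  rw [h4] at hn
  have hsum : (n + 1) * 3 ≤ 6 := by
    have h5 := (sum_cycleType (x : Perm (Fin 6))).le.trans (Finset.card_le_univ _)
    rw [hn, Multiset.sum_replicate, Fintype.card_fin, smul_eq_mul] at h5
    exact h5
  have hn1 : n ≤ 1 := by omega
  interval_cases n
  · left
    refine isConj_of sgt1 sgs1 st1 (isConj_iff_cycleType_eq.2 ?_)
    rw [hn, ct1]
    rfl
  · right
    refine isConj_of sgt2 sgs2 st2 (isConj_iff_cycleType_eq.2 ?_)
    rw [hn, ct2]
    rfl

theorem compl_of {t : A6} (h : ∀ g : A6, g * t = t * g → g * g * g = 1) :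
    HasNormalPComplement 3 ↥(Subgroup.centralizer ({t} : Set A6)) := by
  have hp : IsPGroup 3 ↥(Subgroup.centralizer ({t} : Set A6)) := by
    intro g
    refine ⟨1, Subtype.ext ?_⟩
    have h1 := h g (Subgroup.mem_centralizer_singleton_iff.1 g.2)
    rw [pow_one]
    change (g : A6) ^ 3 = 1
    rw [pow_succ, pow_two]
    exact h1
  obtain ⟨P⟩ : Nonempty (Sylow 3 ↥(Subgroup.centralizer ({t} : Set A6))) := inferInstance
  have hP : (P : Subgroup ↥(Subgroup.centralizer ({t} : Set A6))) = ⊤ :=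
    (P.is_maximal' (Q := ⊤) (hp.to_subgroup ⊤) le_top).symm
  refine ⟨P, ⊥, inferInstance, ?_⟩
  rw [hP]
  exact Subgroup.isComplement'_top_bot.symm

theorem rank {M : Ideal AlgInt} (hM : IsPModular 3 M) : 4 ≤ blockRank 3 (principalBlock M A6) := by
  classical
  have h := six_le_rank_add (p := 3) (by norm_num) hM (Q := A6) (by rw [card_A6]; norm_num)
    {⟨t1, mem_alternatingGroup.2 sgt1⟩, ⟨t2, mem_alternatingGroup.2 sgt2⟩}
    (fun g hg => by
      rcases classes hg with h | h
      · exact ⟨_, Finset.mem_insert_self _ _, h⟩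
      · exact ⟨_, Finset.mem_insert_of_mem (Finset.mem_singleton_self _), h⟩)
    (fun x hx => by
      rcases Finset.mem_insert.1 hx with rfl | hx
      · refine compl_of fun g hg => Subtype.ext (cen1 g (congrArg Subtype.val hg) (mem_alternatingGroup.1 g.2))
      · rw [Finset.mem_singleton.1 hx]
        refine compl_of fun g hg => Subtype.ext (cen2 g (congrArg Subtype.val hg) (mem_alternatingGroup.1 g.2)))
  have h2 : ({⟨t1, mem_alternatingGroup.2 sgt1⟩, ⟨t2, mem_alternatingGroup.2 sgt2⟩} : Finset A6).card ≤ 2 :=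
    Finset.card_le_two
  omega

theorem out {M : Ideal AlgInt} (hM : IsPModular 3 M) :
    Nat.card {θ : IrrCharacter A6 // θ ∉ principalBlock M A6} ≤ 1 := by
  classical
  have : Finite (IrrCharacter A6) := Characters.Core.finite_irr
  have h6 := H774.K0.six_le_card (p := 3) (by norm_num) hM (G := A6) (by rw [card_A6]; norm_num)
  have h5 : Nat.card {χ : IrrCharacter A6 // χ ∈ principalBlock M A6 ∧ ¬ 3 ∣ charDegree (χ : A6 → ℂ)} ≤
      Nat.card {χ : IrrCharacter A6 // χ ∈ principalBlock M A6} := by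
    exact Nat.card_le_card_of_injective (fun χ => (⟨χ.1, χ.2.1⟩ : {χ : IrrCharacter A6 // χ ∈ principalBlock M A6}))
      (fun a b hab => Subtype.ext (congrArg (fun t : {χ : IrrCharacter A6 // χ ∈ principalBlock M A6} => t.1) hab))
  have h7 : Nat.card (IrrCharacter A6) ≤ 7 := by
    rw [Characters.Core.card_irr]
    exact H525.AltK.alt_six
  have h8 : Nat.card {χ : IrrCharacter A6 // χ ∈ principalBlock M A6} +
      Nat.card {θ : IrrCharacter A6 // θ ∉ principalBlock M A6} = Nat.card (IrrCharacter A6) := by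
    rw [← Nat.card_sum]
    exact Nat.card_congr (Equiv.sumCompl fun χ : IrrCharacter A6 => χ ∈ principalBlock M A6)
  omega

def u2 : Perm (Fin 6) := c[0, 1] * c[2, 3]
def u4 : Perm (Fin 6) := c[0, 1, 2, 3] * c[4, 5]
def u5 : Perm (Fin 6) := c[0, 1, 2, 3, 4]

theorem orders : ∀ m ∈ ({1, 2, 4, 5} : Finset ℕ), ¬ 3 ∣ m ∧ ∃ y : A6, orderOf y = m := by
  have key : ∀ (u : Perm (Fin 6)) (hu : sign u = 1) (m : ℕ), u.cycleType.lcm = m → ∃ y : A6, orderOf y = m :=
    fun u hu m hm => ⟨⟨u, mem_alternatingGroup.2 hu⟩, by rw [Subgroup.orderOf_mk, ← lcm_cycleType, hm]⟩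
  intro m hm
  simp only [Finset.mem_insert, Finset.mem_singleton] at hm
  rcases hm with rfl | rfl | rfl | rfl
  · exact ⟨by norm_num, 1, orderOf_one⟩
  · exact ⟨by norm_num, key u2 (by decide +kernel) 2 (by decide +kernel)⟩
  · exact ⟨by norm_num, key u4 (by decide +kernel) 4 (by decide +kernel)⟩
  · exact ⟨by norm_num, key u5 (by decide +kernel) 5 (by decide +kernel)⟩

end Cfsg.Agent.H820.K6.ASix
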