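import Cfsg.Agent.H61.K6.CritD
import Cfsg.Agent.H633.Principal
import Cfsg.Agent.H634.TwoA

/-!
# S4876: ranks of quotients, weights inside `X`, complete groups (helper820)

* `rank_le_of_surj` : `l(B₀(Q)) ≤ l(B₀(G))` if `G` maps onto `Q`;
* `WX p x n` : `n ≤ l(B₀(C_X(x)))`; `card_ge` : elements pairwise not conjugate in `X` of total weight `n`;
* `KGe.of_complete` : if all automorphisms of `X` are inner, then only `G = X` has to be considered.
-/

set_option autoImplicit false

open Cfsg

namespace Cfsg.Agent.H820.K6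

open Cfsg.Agent.H61.K6
open Subgroup

universe u v w

section surj

variable {G : Type u} {Q : Type v} [Group G] [Group Q] [Finite G] {p : ℕ} [hp : Fact p.Prime]

/-- a `p`-regular preimage -/
theorem exists_regular_lift (φ : G →* Q) (hφ : Function.Surjective φ) {q : Q} (hq : ¬ p ∣ orderOf q) :
    ∃ g : G, φ g = q ∧ ¬ p ∣ orderOf g := by
  obtain ⟨g, rfl⟩ := hφ q
  have hpos : orderOf g ≠ 0 := (orderOf_pos g).ne'
  obtain ⟨a, m, hm, hgm⟩ := Nat.exists_eq_pow_mul_and_not_dvd hpos p hp.1.ne_one
  have hcop : Nat.Coprime (p ^ a) (orderOf (φ g)) :=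
    Nat.Coprime.pow_left a ((hp.1.coprime_iff_not_dvd).2 hq)
  obtain ⟨j, hj⟩ := exists_pow_eq_self_of_coprime hcop
  refine ⟨(g ^ p ^ a) ^ j, by rw [map_pow, map_pow, hj], fun h => hm (h.trans ?_)⟩
  apply orderOf_dvd_of_pow_eq_one
  rw [← pow_mul, ← pow_mul, show p ^ a * (j * m) = (p ^ a * m) * j by ring, ← hgm, pow_mul, pow_orderOf_eq_one,
    one_pow]

omit [Finite G] in
theorem tw'_mem {M : Ideal AlgInt} [M.IsPrime] (φ : G →* Q) (hφ : Function.Surjective φ) {χ : IrrCharacter Q}
    (hχ : χ ∈ principalBlock M Q) :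
    (⟨fun g => (χ : Q → ℂ) (φ g), Characters.Core.isIrr_comp φ hφ χ.2⟩ : IrrCharacter G) ∈ principalBlock M G := by
  let e : G ⧸ φ.ker ≃* Q := QuotientGroup.quotientKerEquivOfSurjective φ hφ
  have h1 := H633.Principal.inflate_mem φ.ker (tw_mem e hχ)
  have h2 : (⟨fun g => (χ : Q → ℂ) (φ g), Characters.Core.isIrr_comp φ hφ χ.2⟩ : IrrCharacter G) =
      H633.Principal.infl φ.ker (tw e χ) := by
    apply Subtype.ext
    funext g
    rw [H633.Principal.infl_apply, tw_apply]
    have h3 : e (g : G ⧸ φ.ker) = φ g := rfl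
    rw [h3]
  rw [h2]
  exact h1

/-- **`l(B₀)` of a quotient.** -/
theorem rank_le_of_surj {M : Ideal AlgInt} (hM : IsPModular p M) (φ : G →* Q) (hφ : Function.Surjective φ) :
    blockRank p (principalBlock M Q) ≤ blockRank p (principalBlock M G) := by
  classical
  have hMp : M.IsPrime := hM.2.1.isPrime
  let L : (Q → ℂ) →ₗ[ℂ] (G → ℂ) :=
    { toFun := fun θ g => if IsPRegular p g then θ (φ g) else 0
      map_add' := fun θ θ' => by
        funext g
        by_cases h : IsPRegular p g <;> simp [h]
      map_smul' := fun c θ => by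
        funext g
        by_cases h : IsPRegular p g <;> simp [h] }
  have hreg : ∀ g : G, IsPRegular p g → IsPRegular p (φ g) := fun g hg h => hg (h.trans (orderOf_map_dvd φ g))
  have hL : ∀ χ : IrrCharacter Q, L (pRegularPart p (χ : Q → ℂ)) =
      pRegularPart p (fun g => (χ : Q → ℂ) (φ g)) := by
    intro χ
    funext g
    change (if IsPRegular p g then pRegularPart p (χ : Q → ℂ) (φ g) else 0) = _
    unfold pRegularPart
    by_cases h : IsPRegular p g
    · rw [if_pos h, if_pos h, if_pos (hreg g h)]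
    · rw [if_neg h, if_neg h]
  unfold blockRank
  set W := Submodule.span ℂ ((fun χ : IrrCharacter Q => pRegularPart p (χ : Q → ℂ)) '' principalBlock M Q) with hW
  have hsupp : ∀ θ ∈ W, ∀ q : Q, ¬ IsPRegular p q → θ q = 0 := by
    intro θ hθ q hq
    induction hθ using Submodule.span_induction with
    | mem θ h =>
      obtain ⟨χ, -, rfl⟩ := h
      exact if_neg hq
    | zero => rfl
    | add a b _ _ ha hb => simp [ha, hb]
    | smul c a _ ha => simp [ha]
  have hinj : Function.Injective (L.domRestrict W) := by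
    rw [← LinearMap.ker_eq_bot, LinearMap.ker_eq_bot']
    rintro ⟨θ, hθ⟩ h
    apply Subtype.ext
    funext q
    by_cases hq : IsPRegular p q
    · obtain ⟨g, rfl, hg⟩ := exists_regular_lift φ hφ hq
      have h1 := congrFun h g
      have h2 : L θ g = θ (φ g) := if_pos hg
      exact h2.symm.trans h1
    · exact hsupp θ hθ q hq
  have h1 : Module.finrank ℂ W = Module.finrank ℂ (W.map L) := by
    rw [← LinearMap.range_domRestrict]
    exact (LinearMap.finrank_range_of_inj hinj).symm
  rw [h1]
  apply Submodule.finrank_mono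
  rw [hW, Submodule.map_span, Submodule.span_le]
  rintro _ ⟨_, ⟨χ, hχ, rfl⟩, rfl⟩
  exact Submodule.subset_span ⟨_, tw'_mem φ hφ hχ, (hL χ).symm⟩

end surj

section inner

variable {X : Type v} [Group X] {p : ℕ}

/-- the weight of `x` inside `X` is at least `n` -/
def WX (p : ℕ) (x : X) (n : ℕ) : Prop :=
  ∀ M : Ideal AlgInt, IsPModular p M → n ≤ blockRank p (principalBlock M ↥(centralizer ({x} : Set X)))

theorem WX.one [Finite X] (x : X) : WX p x 1 := by
  intro M hM
  have : Fact p.Prime := ⟨hM.1⟩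
  have := Fintype.ofFinite ↥(centralizer ({x} : Set X))
  exact H634.Cols.blockRank_pos hM

theorem WX.two [Finite X] {x : X} (h : ¬ HasNormalPComplement p ↥(centralizer ({x} : Set X))) : WX p x 2 :=
  fun _ hM => two_le_rank hM h

/-- Elements pairwise not conjugate in `X`. -/
theorem card_ge [Finite X] {n m : ℕ} (T : Finset X) (hT : ∀ x ∈ T, El p x)
    (hinj : ∀ x ∈ T, ∀ y ∈ T, IsConj x y → x = y) (wt : X → ℕ) (hw : ∀ x ∈ T, WX p x (wt x))
    {M : Ideal AlgInt} (hM : IsPModular p M) (h1 : m ≤ blockRank p (principalBlock M X))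
    (hn : n ≤ m + ∑ x ∈ T, wt x) : n ≤ Nat.card (principalBlock M X) := by
  classical
  have : Fact p.Prime := ⟨hM.1⟩
  have h1T : (1 : X) ∉ T := fun h => (hT 1 h).2 rfl
  have h2 := H634.TwoA.sum_rank_le hM (insert (1 : X) T)
    (by
      intro x hx
      rcases Finset.mem_insert.1 hx with rfl | hx
      · exact ⟨0, by simp⟩
      · exact (hT x hx).1)
    (by
      intro x hx y hy hxy
      rcases Finset.mem_insert.1 hx with rfl | hx
      · exact (isConj_one_right.1 hxy).symm
      · rcases Finset.mem_insert.1 hy with rfl | hy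
        · exact isConj_one_left.1 hxy
        · exact hinj x hx y hy hxy)
  rw [Finset.sum_insert h1T, H634.TwoA.rank_one_eq hM] at h2
  have h3 := Finset.sum_le_sum (s := T) fun x hx => hw x hx M hM
  omega

end inner

section complete

variable {X : Type v} [Group X] {p n : ℕ}

/-- **Complete groups.** -/
theorem KGe.of_complete [Finite X] (hinn : ∀ σ : X ≃* X, ∃ g : X, ∀ x, σ x = g * x * g⁻¹)
    (h : ∀ M : Ideal AlgInt, IsPModular p M → n ≤ Nat.card (principalBlock M X)) : KGe.{u, v} p n X := by
  intro M G _ _ K hS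
  have hK := hS.normal
  obtain ⟨f⟩ := hS.iso
  have htop : ∀ g : G, g ∈ K := by
    intro g
    obtain ⟨a, ha⟩ := hinn ((f.trans (MulAut.conjNormal g : MulAut K)).trans f.symm)
    have h1 : ((f a : K) : G)⁻¹ * g ∈ centralizer (K : Set G) := by
      rw [mem_centralizer_iff]
      intro k hk
      have h2 := ha (f.symm ⟨k, hk⟩)
      have h3 : f.symm ((MulAut.conjNormal g : MulAut K) (f (f.symm ⟨k, hk⟩))) =
        a * f.symm ⟨k, hk⟩ * a⁻¹ := h2
      rw [f.apply_symm_apply, f.symm_apply_eq, map_mul, map_mul, map_inv, f.apply_symm_apply] at h3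
      have h4 := congrArg Subtype.val h3
      rw [MulAut.conjNormal_apply] at h4
      change g * k * g⁻¹ = (f a : G) * k * (f a : G)⁻¹ at h4
      calc k * ((f a : G)⁻¹ * g) = (f a : G)⁻¹ * ((f a : G) * k * (f a : G)⁻¹) * g := by group
        _ = (f a : G)⁻¹ * (g * k * g⁻¹) * g := by rw [h4]
        _ = _ := by group
    rw [hS.cent, mem_bot] at h1
    have h2 : g = f a := by
      calc g = (f a : G) * ((f a : G)⁻¹ * g) := by group
        _ = f a := by rw [h1, mul_one]
    rw [h2]
    exact (f a).2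
  let e : X ≃* G := f.trans ((MulEquiv.subgroupCongr ((eq_top_iff' K).2 htop)).trans topEquiv)
  refine (h M hS.modular).trans ?_
  have hfin : Finite (IrrCharacter G) := Characters.Core.finite_irr
  refine Nat.card_le_card_of_injective
    (fun χ : principalBlock M X => (⟨tw e.symm χ.1, tw_mem e.symm χ.2⟩ : principalBlock M G)) ?_
  intro a b hab
  apply Subtype.ext
  apply Subtype.ext
  funext x
  have h1 := congrArg (fun t : principalBlock M G => ((t : IrrCharacter G) : G → ℂ) (e x)) hab
  change ((a : IrrCharacter X) : X → ℂ) (e.symm (e x)) = ((b : IrrCharacter X) : X → ℂ) (e.symm (e x)) at h1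
  rwa [e.symm_apply_apply] at h1

end complete

end Cfsg.Agent.H820.K6
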