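import Cfsg.Agent.H820.K6.Heis
import Cfsg.Agent.H805.HeThree
import Cfsg.Agent.KFacts.He.Cent

/-!
# S4876: the row `He`, `p = 3` (helper820)

`c` (class 3A): `Heis` data in `C(c)`; `z` (class 3B), fixed point free.  `row_he`.
-/

set_option autoImplicit false
set_option maxRecDepth 100000

open Cfsg

namespace Cfsg.Agent.H820.K6

open Subgroup
open Cfsg.Agent.H61.K6 Cfsg.Agent.H80.K6

universe u v

/-- `Heis` data in the centralizer of `c` -/
theorem WX.of_heis {X : Type v} [Group X] [Finite X] {a b c g : X} (hc : orderOf c = 3) (hac : a * c = c * a)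
    (hbc : b * c = c * b) (hgc : g * c = c * g) (a3 : a ^ 3 = 1) (b3 : b ^ 3 = 1) (hab : a * b = b * a * c)
    {i j : ℤ} (ga : g * a * g⁻¹ = b * c ^ i) (gb : g * b * g⁻¹ = a⁻¹ * c ^ j) (h81 : ¬ 81 ∣ Nat.card X) : WX 3 c 4 := by
  have m : ∀ y : X, y * c = c * y → y ∈ centralizer ({c} : Set X) := fun y hy => mem_centralizer_singleton_iff.2 hy
  have H : Heis (C := ↥(centralizer ({c} : Set X))) ⟨a, m a hac⟩ ⟨b, m b hbc⟩ ⟨c, m c rfl⟩ ⟨g, m g hgc⟩ :=
    { hc := by rw [Subgroup.orderOf_mk]; exact hc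
      cen := fun x => Subtype.ext (mem_centralizer_singleton_iff.1 x.2)
      a3 := Subtype.ext a3
      b3 := Subtype.ext b3
      ab := Subtype.ext hab
      ga := ⟨i, Subtype.ext (by simpa using ga)⟩
      gb := ⟨j, Subtype.ext (by simpa using gb)⟩
      not81 := fun h => h81 (h.trans (card_subgroup_dvd_card _)) }
  exact fun M hM => H.rank hM

/-- The row of a group with an element `c` with `Heis` data and an element `z` whose centralizer has another order, both
of orbit weight 2. -/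
theorem row_of_heis {X : Type v} [Group X] [Finite X] (hX : ¬ HasNormalPComplement 3 X) {c z : X}
    (hc : orderOf c = 3) (hz : orderOf z = 3) (hw : WX 3 c 4)
    (hne : Nat.card ↥(centralizer ({c} : Set X)) ≠ Nat.card ↥(centralizer ({z} : Set X)))
    (h1 : EpsGe.{u, v} 3 c 2) (h2 : EpsGe.{u, v} 3 z 2) : KRow.{u, v} 3 X := by
  classical
  have hp3 : Fact (Nat.Prime 3) := ⟨Nat.prime_three⟩
  have hcz : c ≠ z := fun h => hne (h ▸ rfl)
  have El_of : ∀ x : X, orderOf x = 3 → El 3 x := fun x h =>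
    ⟨⟨1, by rw [h, pow_one]⟩, fun h1 => by rw [h1, orderOf_one] at h; omega⟩
  have hT : ∀ x ∈ ({c, z} : Finset X), El 3 x := by
    intro x hx
    rcases Finset.mem_insert.1 hx with rfl | hx
    · exact El_of _ hc
    · rw [Finset.mem_singleton.1 hx]
      exact El_of _ hz
  have hinj : ∀ x ∈ ({c, z} : Finset X), ∀ y ∈ ({c, z} : Finset X), ∀ σ : X ≃* X, σ x = y → x = y := by
    intro x hx y hy σ hσ
    have h1 := card_centralizer_aut σ x
    rw [hσ] at h1
    rcases Finset.mem_insert.1 hx with ex | hx <;> rcases Finset.mem_insert.1 hy with ey | hy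
    · rw [ex, ey]
    · rw [ex, Finset.mem_singleton.1 hy] at h1
      exact absurd h1.symm hne
    · rw [ey, Finset.mem_singleton.1 hx] at h1
      exact absurd h1 hne
    · rw [Finset.mem_singleton.1 hx, Finset.mem_singleton.1 hy]
  refine KRow.of_two hX (fun M hM => ?_) {c, z} hT hinj (fun x => 2) ?_ ?_
  · refine card_ge (m := 2) {c, z} hT (fun x hx y hy hxy => ?_) (fun x => if x = c then 4 else 1) ?_ hM
      (two_le_rank hM hX) ?_
    · obtain ⟨g, hg⟩ := isConj_iff.1 hxy
      exact hinj x hx y hy (MulAut.conj g) hg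
    · intro x _ M' hM'
      by_cases hx : x = c
      · rw [if_pos hx, hx]
        exact hw M' hM'
      · rw [if_neg hx]
        exact WX.one x M' hM'
    · rw [Finset.sum_pair hcz, if_pos rfl, if_neg hcz.symm]
      norm_num
  · intro x hx
    rcases Finset.mem_insert.1 hx with rfl | hx
    · exact h1
    · rw [Finset.mem_singleton.1 hx]
      exact h2
  · rw [Finset.sum_pair hcz]

section he

open Cfsg.Spor Cfsg.Spor.He Cfsg.Agent.SporadicB.HePerm Cfsg.Agent.FixBN.HeStab
open Cfsg.Agent.KFacts.He.Lv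

namespace He3

def wc : List Gen := [.d, .e]
def wx : List Gen := [.c, .f, .g, .d, .f, .g, .c]
def wy : List Gen := [.b, .d, .f, .d, .c, .d, .g, .d, .c, .d, .g, .c, .d, .f, .b, .c, .f, .g, .d, .f, .g, .c, .b, .f, .d,
  .c, .g, .d, .c, .g, .d, .g, .c, .d, .f, .e, .b]
def wg : List Gen := [.a, .b, .e, .g, .d, .c, .d, .f, .d, .c, .d, .f, .c, .d, .g, .b]
def wh : List Gen := [.b, .a, .b]
def wz : List Gen := [.b, .c]
def wv : List Gen := [.a, .c, .b, .d, .c, .b, .d, .c, .e, .d, .c, .b, .c, .d, .c, .d, .e, .b, .c, .d, .b, .c, .d, .b]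

theorem cube {w : List Gen} (h : chkB (w ++ (w ++ w)) [] = true) : (wd w) ^ 3 = 1 := by
  have h := eq_of_chkB h
  rw [wd_append, wd_append, wd_nil] at h
  rw [pow_three]; exact h

theorem ne_one {w : List Gen} (i : Fin 2058) (h : act w i ≠ i) : wd w ≠ 1 := by
  intro h0
  have h1 := phi_wd_apply w i
  rw [h0, map_one] at h1
  exact h h1.symm

theorem comm {v w : List Gen} (h : chkB (v ++ w) (w ++ v) = true) : wd v * wd w = wd w * wd v := by
  have h := eq_of_chkB h
  rwa [wd_append, wd_append] at h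

theorem x3 : (wd wx) ^ 3 = 1 := cube (by decide +kernel)
theorem y3 : (wd wy) ^ 3 = 1 := cube (by decide +kernel)
theorem c3 : (wd wc) ^ 3 = 1 := cube (by decide +kernel)
theorem z3 : (wd wz) ^ 3 = 1 := cube (by decide +kernel)
theorem v3 : (wd wv) ^ 3 = 1 := cube (by decide +kernel)
theorem x_ne : wd wx ≠ 1 := ne_one 0 (by decide +kernel)
theorem c_ne : wd wc ≠ 1 := ne_one 32 (by decide +kernel)
theorem z_ne : wd wz ≠ 1 := ne_one 0 (by decide +kernel)
theorem v_ne : wd wv ≠ 1 := ne_one 15 (by decide +kernel)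
theorem xc : wd wx * wd wc = wd wc * wd wx := comm (by decide +kernel)
theorem yc : wd wy * wd wc = wd wc * wd wy := comm (by decide +kernel)
theorem gc : wd wg * wd wc = wd wc * wd wg := comm (by decide +kernel)
theorem hc : wd wh * wd wc = wd wc * wd wh := comm (by decide +kernel)
theorem vz : wd wv * wd wz = wd wz * wd wv := comm (by decide +kernel)
theorem ez : wd [.e] * wd wz = wd wz * wd [.e] := comm (by decide +kernel)

theorem xy : wd wx * wd wy = wd wy * wd wx * wd wc := by
  have h := eq_of_chkB (v := wx ++ wy) (w := wy ++ wx ++ wc) (by decide +kernel)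
  rwa [wd_append, wd_append, wd_append] at h

theorem gx : wd wg * wd wx * (wd wg)⁻¹ = wd wy * wd wc ^ (2 : ℤ) := by
  have h := eq_of_chkB (v := wg ++ wx) (w := wy ++ (wc ++ wc) ++ wg) (by decide +kernel)
  rw [wd_append, wd_append, wd_append, wd_append] at h
  rw [mul_inv_eq_iff_eq_mul, h, zpow_two]

theorem gy : wd wg * wd wy * (wd wg)⁻¹ = (wd wx)⁻¹ * wd wc ^ (1 : ℤ) := by
  have h := eq_of_chkB (v := wx ++ (wg ++ wy)) (w := wc ++ wg) (by decide +kernel)
  rw [wd_append, wd_append, wd_append] at h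
  rw [mul_inv_eq_iff_eq_mul, zpow_one, mul_assoc, ← h, inv_mul_cancel_left]

theorem hx : wd wh * wd wx * (wd wh)⁻¹ = (wd wx) ^ 2 := by
  have h := eq_of_chkB (v := wh ++ wx) (w := (wx ++ wx) ++ wh) (by decide +kernel)
  rw [wd_append, wd_append, wd_append] at h
  rw [mul_inv_eq_iff_eq_mul, h, pow_two]

theorem ev : wd [.e] * wd wv * (wd [.e])⁻¹ = (wd wv) ^ 2 := by
  have h := eq_of_chkB (v := [.e] ++ wv) (w := (wv ++ wv) ++ [.e]) (by decide +kernel)
  rw [wd_append, wd_append, wd_append] at h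
  rw [mul_inv_eq_iff_eq_mul, h, pow_two]

theorem fpf_chk : allBelow 2058 (fun i => !(Nat.beq (act wz i) i)) = true := by decide +kernel

theorem fpf (i : Fin 2058) : phi (wd wz) i ≠ i := by
  intro h
  have h1 := phi_wd_apply wz i
  rw [h] at h1
  have h2 := of_allBelow fpf_chk i.1 i.2
  rw [← h1] at h2
  simp at h2

theorem ord {x : Cfsg.Spor.He} (h3 : x ^ 3 = 1) (h1 : x ≠ 1) : orderOf x = 3 := by
  have : Fact (Nat.Prime 3) := ⟨Nat.prime_three⟩
  exact orderOf_eq_prime h3 h1

theorem not_dvd_z : ¬ 27 ∣ Nat.card (centralizer ({wd wz} : Set Cfsg.Spor.He)) := by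
  have := H805.HeThree.finite_he
  let act : MulAction Cfsg.Spor.He (Fin 2058) := MulAction.compHom _ phi
  obtain ⟨P, hP, hA, hB⟩ := H805.FpfCent.exists_pgroup x3 y3 c3 xc yc xy
  refine H805.FpfCent.not_dvd (X := Fin 2058) (m := 149273600) (by rw [card_he]) (by norm_num) (by simp) fpf z3 hP hA hB ?_
  intro h
  apply c_ne
  have h1 := xy
  rw [h] at h1
  exact mul_eq_left.1 h1.symm

/-- `27` divides the order of `C(c)` -/
theorem dvd_c : 27 ∣ Nat.card (centralizer ({wd wc} : Set Cfsg.Spor.He)) := by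
  have := H805.HeThree.finite_he
  have m : ∀ y : Cfsg.Spor.He, y * wd wc = wd wc * y → y ∈ centralizer ({wd wc} : Set Cfsg.Spor.He) := fun y hy =>
    mem_centralizer_singleton_iff.2 hy
  have H : Heis (C := ↥(centralizer ({wd wc} : Set Cfsg.Spor.He))) ⟨_, m _ xc⟩ ⟨_, m _ yc⟩ ⟨_, m _ rfl⟩ ⟨_, m _ gc⟩ :=
    { hc := by rw [Subgroup.orderOf_mk]; exact ord c3 c_ne
      cen := fun x => Subtype.ext (mem_centralizer_singleton_iff.1 x.2)
      a3 := Subtype.ext x3
      b3 := Subtype.ext y3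
      ab := Subtype.ext xy
      ga := ⟨2, Subtype.ext (by simpa using gx)⟩
      gb := ⟨1, Subtype.ext (by simpa using gy)⟩
      not81 := fun h => by
        have h1 := h.trans (card_subgroup_dvd_card _)
        rw [card_he] at h1
        norm_num at h1 }
  have hn := H.normal
  have P := H.pair H.ab (by rw [H.a3]; exact one_mem _) (by rw [H.b3]; exact one_mem _)
  rw [H.card_quot]
  refine mul_dvd_mul (a := 9) (c := 3) ?_ (dvd_refl 3)
  rw [← P.card_plane]
  exact card_subgroup_dvd_card _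

end He3

open He3 in
theorem row_he {X : Type v} [Group X] [Finite X] (h : Spor.IsoHe X) : KRow.{u, v} 3 X := by
  have hp3 : Fact (Nat.Prime 3) := ⟨Nat.prime_three⟩
  obtain ⟨e⟩ := h
  refine KRow.congr e.symm ?_
  have hfin := H805.HeThree.finite_he
  have hs : IsSimpleGroup Cfsg.Spor.He := KFacts.He.Cent.simpleHe
  have hX : ¬ HasNormalPComplement 3 Cfsg.Spor.He := by
    refine not_compl_of_simple ⟨wd wx, wd wy, fun h => ?_⟩ ?_
    · apply c_ne
      have h1 := xy
      rw [h] at h1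
      exact mul_eq_left.1 h1.symm
    · rw [card_he]
      norm_num
  refine row_of_heis hX (c := wd wc) (z := wd wz) (ord c3 c_ne) (ord z3 z_ne)
    (WX.of_heis (ord c3 c_ne) xc yc gc x3 y3 xy gx gy (by rw [card_he]; norm_num)) ?_ ?_ ?_
  · intro h
    exact not_dvd_z (h ▸ dvd_c)
  · refine epsGe_two_of (v := wd wx) (h := wd He3.wh) xc He3.hc (ord x3 x_ne) 2 hx ?_
    intro h
    apply x_ne
    rw [pow_two] at h
    exact mul_eq_left.1 h
  · refine epsGe_two_of (v := wd wv) (h := wd [.e]) vz ez (ord v3 v_ne) 2 ev ?_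
    intro h
    apply v_ne
    rw [pow_two] at h
    exact mul_eq_left.1 h

end he

end Cfsg.Agent.H820.K6
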