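import Cfsg.Agent.H820.K6.SixQuot
import Cfsg.Agent.KFacts.J2.Facts
import Cfsg.Agent.J2Type.ThreeF
import Cfsg.Agent.CpAutJThree.Row

/-!
# S4876, rows `J₂`, `J₃`, `p = 3`: the elements of order three (helper820)

`Two3 X` : elements `c`, `y` of order 3 whose centralizers have different orders, and a homomorphism of `C(c)` onto
`A₆`.  `j2`, `j3`.
-/

set_option autoImplicit false

open Cfsg

namespace Cfsg.Agent.H820.K6

open Subgroup

/-- two elements of order three, the first one with `C(c) → A₆` -/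
def Two3 (X : Type*) [Group X] : Prop :=
  ∃ (c y : X) (φ : ↥(centralizer ({c} : Set X)) →* alternatingGroup (Fin 6)), orderOf c = 3 ∧ orderOf y = 3 ∧
    Nat.card ↥(centralizer ({c} : Set X)) = 1080 ∧
    Nat.card ↥(centralizer ({y} : Set X)) ≠ 1080 ∧ Function.Surjective φ

section j2
open Cfsg.Agent.J2Type.Base Cfsg.Agent.J2Type.CentU Cfsg.Agent.J2Type

theorem two3_of_fus {G : Type*} [Group G] [Finite G] {z u : G} (h : Fus z u) : Two3 G := by
  have : Fact (Nat.Prime 5) := ⟨by norm_num⟩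
  obtain ⟨f, U, V, H0, F⟩ := CentU.main h
  obtain ⟨d, hd, hdV, hdH⟩ := ThreeA.exists_d h F
  have hG := Order.card_of_fus h
  have h60 := ThreeA.card_H0 h F
  obtain ⟨w, hw⟩ := exists_prime_orderOf_dvd_card' (G := H0) 5 (by rw [h60]; norm_num)
  have hw5 : orderOf (w : G) = 5 := by rw [orderOf_coe]; exact hw
  obtain ⟨e⟩ := Cent5.exists_equiv_CQ h F h60 hG w.2 hw5
  obtain ⟨e0⟩ := Cent5.exists_equiv h F h60
  have hC := ThreeD.card_centralizer_d h F hd hdH
  have hCf := ThreeD.card_centralizer_f h F hd hdH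
  have h15 := ThreeC.card_inf_fifteen e hw5 hd (hdH w w.2)
  let C := centralizer ({d} : Set G)
  have memC : ∀ a : G, a ∈ C ↔ a * d = d * a := fun a => mem_centralizer_singleton_iff
  have hHC : H0 ≤ C := fun x hx => (memC x).2 (hdH x hx).symm
  let H : Subgroup C := H0.subgroupOf C
  let eH : H ≃* alternatingGroup (Fin 5) := (subgroupOfEquivOfLe hHC).trans e0
  let wC : C := ⟨w, hHC w.2⟩
  obtain ⟨φ, hφ⟩ := surj_of_five (C := C) hC (d := ⟨d, (memC d).2 rfl⟩) (by rw [orderOf_mk]; exact hd)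
    (fun x => Subtype.ext ((memC x).1 x.2)) eH (w := wC) w.2 (by
      intro h9
      have h1 : Nat.card ↥(centralizer ({wC} : Set C)) =
          Nat.card ↥(centralizer ({(w : G)} : Set G) ⊓ centralizer ({d} : Set G) : Subgroup G) := by
        rw [← card_map_of_injective (K := centralizer ({wC} : Set C)) C.subtype_injective]
        congr 2
        ext x
        constructor
        · rintro ⟨y, hy, rfl⟩
          rw [SetLike.mem_coe, mem_centralizer_singleton_iff] at hy
          exact ⟨mem_centralizer_singleton_iff.2 (congrArg Subtype.val hy), y.2⟩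
        · rintro ⟨h1, h2⟩
          exact ⟨⟨x, h2⟩, mem_centralizer_singleton_iff.2 (Subtype.ext (mem_centralizer_singleton_iff.1 h1)), rfl⟩
      rw [h1, h15] at h9
      omega)
  exact ⟨d, f, φ, hd, F.f_ord, hC, by rw [hCf]; norm_num, hφ⟩

theorem j2 {X : Type*} [Group X] [Finite X] (h : Spor.IsoJ2 X) : Two3 X := by
  obtain ⟨t, u, Q, v, ρ, D⟩ := KFacts.J2.Facts.exists_dat_of h
  exact two3_of_fus D.F

end j2

section j3
open Cfsg.Agent.CpAutJThree

theorem j3 {X : Type*} [Group X] (h : Spor.IsoJ3 X) : Two3 X := by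
  obtain ⟨hcard, hM, hone, -⟩ := base h
  have hfin : Finite X := Nat.finite_of_card_ne_zero (by rw [hcard]; norm_num)
  have hp2 : Fact (Nat.Prime 2) := ⟨Nat.prime_two⟩
  have hp3 : Fact (Nat.Prime 3) := ⟨Nat.prime_three⟩
  obtain ⟨x, hx, -, hC⟩ := exc h
  obtain ⟨y, hy, hyC⟩ := exists_central (X := X) (p := 3) (n := 5) (by norm_num) (by rw [hcard]; norm_num)
  have memC : ∀ a : X, a ∈ centralizer ({x} : Set X) ↔ a * x = x * a := fun a => mem_centralizer_singleton_iff
  let c : centralizer ({x} : Set X) := ⟨x, (memC x).2 rfl⟩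
  have hc3 : orderOf c = 3 := by rw [← hx]; exact orderOf_mk _ _
  have hcc : ∀ a : centralizer ({x} : Set X), a * c = c * a := fun a => Subtype.ext ((memC a).1 a.2)
  have hZn : (zpowers c).Normal := by
    constructor
    rintro n ⟨k, rfl⟩ g
    refine ⟨k, ?_⟩
    have h1 : Commute g c := hcc g
    have := h1.zpow_right k
    show c ^ k = g * c ^ k * g⁻¹
    rw [this.eq]; group
  have hHD8 := J3Type.Extra.hd8_quotient c hc3 hcc (hD_of_model hM hx)
  have hq : Nat.card (↥(centralizer ({x} : Set X)) ⧸ zpowers c) = 360 := by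
    have := card_eq_card_quotient_mul_card_subgroup (zpowers c)
    rw [hC, Nat.card_zpowers, hc3] at this
    omega
  obtain ⟨s', hs'⟩ := exists_prime_orderOf_dvd_card' (G := ↥(centralizer ({x} : Set X)) ⧸ zpowers c) 2
    (by rw [hq]; norm_num)
  have hsim := J3Type.Extra.isSimple hHD8 hs'
  obtain ⟨e⟩ := Cfsg.Agent.S0497.result hq
  refine ⟨x, y, e.toMonoidHom.comp (QuotientGroup.mk' (zpowers c)), hx, hy, hC, ?_,
    e.surjective.comp (QuotientGroup.mk'_surjective _)⟩
  intro h1
  rw [h1] at hyC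
  norm_num at hyC

end j3

end Cfsg.Agent.H820.K6
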