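import Cfsg.Agent.H820.K6.ASix
import Cfsg.Agent.H820.K6.FactsJ

/-!
# S4876: the rows `J₂` and `J₃`, `p = 3` (helper820)

`row_of_two3` : the criterion; `row_j2`, `row_j3`.
-/

set_option autoImplicit false

open Cfsg

namespace Cfsg.Agent.H820.K6

open Cfsg.Agent.H61.K6 Cfsg.Agent.H80.K6
open Subgroup

universe u v

theorem El_of_order {p : ℕ} [hp : Fact p.Prime] {X : Type*} [Group X] {x : X} (h : orderOf x = p) : El p x :=
  ⟨⟨1, by rw [h, pow_one]⟩, fun h1 => hp.1.ne_one (by rw [← h, h1, orderOf_one])⟩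

/-- the kernel of `φ` is `⟨c⟩` -/
theorem ker_eq {X : Type v} [Group X] [Finite X] {c : X}
    (φ : ↥(centralizer ({c} : Set X)) →* alternatingGroup (Fin 6)) (hc : orderOf c = 3)
    (hC : Nat.card ↥(centralizer ({c} : Set X)) = 1080) (hφ : Function.Surjective φ)
    {y : ↥(centralizer ({c} : Set X))} (hy : φ y = 1) : (y : X) ∈ zpowers c := by
  classical
  let C := centralizer ({c} : Set X)
  let c' : C := ⟨c, mem_centralizer_singleton_iff.2 rfl⟩
  have hc' : orderOf c' = 3 := by rw [← hc]; exact orderOf_mk _ _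
  have h1 : Nat.card φ.ker = 3 := by
    have h2 := φ.ker.card_mul_index
    rw [index_ker, MonoidHom.range_eq_top.2 hφ, card_top, hC, ASix.card_A6] at h2
    omega
  have h2 : φ c' = 1 := by
    have h3 : φ c' ∈ center (alternatingGroup (Fin 6)) := by
      rw [mem_center_iff]
      intro a
      obtain ⟨b, rfl⟩ := hφ a
      rw [← map_mul, ← map_mul]
      exact congrArg φ (Subtype.ext (mem_centralizer_singleton_iff.1 b.2))
    have h4 : IsSimpleGroup (alternatingGroup (Fin 6)) := alternatingGroup.isSimpleGroup (by simp)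
    rcases (inferInstance : (center (alternatingGroup (Fin 6))).Normal).eq_bot_or_eq_top with h5 | h5
    · rw [h5] at h3
      exact mem_bot.1 h3
    · exfalso
      have h6 : (⟨ASix.t1, Equiv.Perm.mem_alternatingGroup.2 ASix.sgt1⟩ : alternatingGroup (Fin 6)) ∈
          center (alternatingGroup (Fin 6)) := by rw [h5]; trivial
      have h7 := congrArg Subtype.val (mem_center_iff.1 h6
        ⟨ASix.u5, Equiv.Perm.mem_alternatingGroup.2 (by decide +kernel)⟩)
      have h8 : ASix.u5 * ASix.t1 = ASix.t1 * ASix.u5 := h7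
      revert h8
      decide +kernel
  have h3 : zpowers c' = φ.ker := by
    apply eq_of_le_of_card_ge
    · rw [zpowers_le]
      exact h2
    · rw [h1, Nat.card_zpowers, hc']
  have h4 : y ∈ zpowers c' := by rw [h3]; exact hy
  obtain ⟨k, hk⟩ := h4
  refine ⟨k, ?_⟩
  have := congrArg Subtype.val hk
  simpa using this

theorem row_of_two3 {X : Type v} [Group X] [Finite X] (hX : ¬ HasNormalPComplement 3 X) (h : Two3 X) :
    KRow.{u, v} 3 X := by
  classical
  have hp3 : Fact (Nat.Prime 3) := ⟨Nat.prime_three⟩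
  obtain ⟨c, y, φ, hc, hy, hC, hyC, hφ⟩ := h
  have hcy : c ≠ y := fun h => hyC (h ▸ hC)
  have hT : ∀ x ∈ ({c, y} : Finset X), El 3 x := by
    intro x hx
    rcases Finset.mem_insert.1 hx with rfl | hx
    · exact El_of_order hc
    · rw [Finset.mem_singleton.1 hx]
      exact El_of_order hy
  have hinj : ∀ x ∈ ({c, y} : Finset X), ∀ z ∈ ({c, y} : Finset X), ∀ σ : X ≃* X, σ x = z → x = z := by
    intro x hx z hz σ hσ
    have h1 := card_centralizer_aut σ x
    rw [hσ] at h1
    rcases Finset.mem_insert.1 hx with ex | hx <;> rcases Finset.mem_insert.1 hz with ez | hz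
    · rw [ex, ez]
    · rw [ex, Finset.mem_singleton.1 hz, hC] at h1
      exact absurd h1 hyC
    · rw [ez, Finset.mem_singleton.1 hx, hC] at h1
      exact absurd h1.symm hyC
    · rw [Finset.mem_singleton.1 hx, Finset.mem_singleton.1 hz]
  refine KRow.of_two hX (fun M hM => ?_) {c, y} hT hinj (fun x => if x = c then 3 else 1) ?_ ?_
  · refine card_ge (m := 2) {c, y} hT (fun x hx z hz hxz => ?_) (fun x => if x = c then 4 else 1) ?_ hM
      (two_le_rank hM hX) ?_
    · obtain ⟨g, hg⟩ := isConj_iff.1 hxz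
      exact hinj x hx z hz (MulAut.conj g) hg
    · intro x _ M' hM'
      by_cases hx : x = c
      · rw [if_pos hx, hx]
        exact (ASix.rank hM').trans (rank_le_of_surj hM' φ hφ)
      · rw [if_neg hx]
        exact WX.one x M' hM'
    · rw [Finset.sum_pair hcy, if_pos rfl, if_neg hcy.symm]
      norm_num
  · intro x _
    by_cases hx : x = c
    · rw [if_pos hx, hx]
      refine epsGe_quot φ hφ ?_ {1, 2, 4, 5} ASix.orders (fun M hM => ASix.out hM) (by decide)
      intro σ hσ a a' ha h1
      obtain ⟨k, hk⟩ := ker_eq φ hc hC hφ h1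
      have h2 : a' = a := by
        apply Subtype.ext
        rw [ha]
        change c ^ k = (a : X) at hk
        rw [← hk, map_zpow, hσ]
      rw [h2]
      exact h1
    · rw [if_neg hx]
      exact epsGe_one x
  · rw [Finset.sum_pair hcy, if_pos rfl, if_neg hcy.symm]

theorem row_j2 {X : Type v} [Group X] [Finite X] [IsSimpleGroup X] (h : Spor.IsoJ2 X) : KRow.{u, v} 3 X := by
  have hp3 : Fact (Nat.Prime 3) := ⟨Nat.prime_three⟩
  obtain ⟨t, w, Q, v, ρ, D⟩ := KFacts.J2.Facts.exists_dat_of h
  refine row_of_two3 (not_compl_of_simple ?_ ?_) (j2 h)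
  · by_contra hcon
    push Not at hcon
    let _ : CommGroup X := { (inferInstance : Group X) with mul_comm := hcon }
    have h1 := IsSimpleGroup.prime_card (α := X)
    rw [D.card] at h1
    norm_num at h1
  · rw [D.card]
    norm_num

theorem row_j3 {X : Type v} [Group X] [Finite X] [IsSimpleGroup X] (h : Spor.IsoJ3 X) : KRow.{u, v} 3 X := by
  have hp3 : Fact (Nat.Prime 3) := ⟨Nat.prime_three⟩
  have hcard := (CpAutJThree.base h).1
  refine row_of_two3 (not_compl_of_simple ?_ ?_) (j3 h)
  · by_contra hcon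
    push Not at hcon
    let _ : CommGroup X := { (inferInstance : Group X) with mul_comm := hcon }
    have h1 := IsSimpleGroup.prime_card (α := X)
    rw [hcard] at h1
    norm_num at h1
  · rw [hcard]
    norm_num

end Cfsg.Agent.H820.K6
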