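import Cfsg.Agent.H820.K6.RowHe
import Cfsg.Agent.KFacts.M24Two.Out
import Cfsg.Agent.H865.Three
import Cfsg.Agent.S0365

/-!
# S4876: the row `M₂₄`, `p = 3` (helper820)

`Heis` data for an element of class 3A; `row_m24`.
-/

set_option autoImplicit false
set_option maxRecDepth 100000

open Cfsg

namespace Cfsg.Agent.H820.K6

open Subgroup
open Cfsg.Agent.H61.K6 Cfsg.Agent.H80.K6

universe u v

/-- The row of a complete group with an element `c` with `Heis` data and an element `z` of order three not conjugate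
to `c`. -/
theorem row_of_complete {X : Type v} [Group X] [Finite X] (hX : ¬ HasNormalPComplement 3 X)
    (hinn : ∀ σ : X ≃* X, ∃ g : X, ∀ x, σ x = g * x * g⁻¹) {c z : X}
    (hc : orderOf c = 3) (hz : orderOf z = 3) (hw : WX 3 c 4) (hne : ¬ IsConj c z) : KRow.{u, v} 3 X := by
  classical
  have hp3 : Fact (Nat.Prime 3) := ⟨Nat.prime_three⟩
  have hcz : c ≠ z := fun h => hne (h ▸ IsConj.refl _)
  have El_of : ∀ x : X, orderOf x = 3 → El 3 x := fun x h =>
    ⟨⟨1, by rw [h, pow_one]⟩, fun h1 => by rw [h1, orderOf_one] at h; omega⟩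
  refine KGe.of_complete hinn fun M hM => ?_
  refine card_ge (m := 2) {c, z} ?_ ?_ (fun x => if x = c then 4 else 1) ?_ hM (two_le_rank hM hX) ?_
  · intro x hx
    rcases Finset.mem_insert.1 hx with rfl | hx
    · exact El_of _ hc
    · rw [Finset.mem_singleton.1 hx]
      exact El_of _ hz
  · intro x hx y hy hxy
    rcases Finset.mem_insert.1 hx with ex | hx <;> rcases Finset.mem_insert.1 hy with ey | hy
    · rw [ex, ey]
    · rw [ex, Finset.mem_singleton.1 hy] at hxy
      exact absurd hxy hne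
    · rw [ey, Finset.mem_singleton.1 hx] at hxy
      exact absurd hxy.symm hne
    · rw [Finset.mem_singleton.1 hx, Finset.mem_singleton.1 hy]
  · intro x _ M' hM'
    by_cases hx : x = c
    · rw [if_pos hx, hx]
      exact hw M' hM'
    · rw [if_neg hx]
      exact WX.one x M' hM'
  · rw [Finset.sum_pair hcz, if_pos rfl, if_neg hcz.symm]
    norm_num

section m24

open Cfsg.Agent.SporadicA.GolayBase Cfsg.Agent.SporadicA.GolayPerm
open Cfsg.Agent.SporadicStructure.M24El Cfsg.Agent.H865.Three

namespace M24Three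

def Pa : ℕ := 964881191720758182463306665992345152
def Pb : ℕ := 524685161633760058998554559899600932
def Pc : ℕ := 965132897695136284939816039732028463
def Pg : ℕ := 803129441523847784920614046556765923

theorem oka : ok Pa = true := by decide +kernel
theorem okb : ok Pb = true := by decide +kernel
theorem okc : ok Pc = true := by decide +kernel
theorem okg : ok Pg = true := by decide +kernel

theorem cube {P : ℕ} (h : ok P = true) (h3 : pcomp P (pcomp P P) = idP) : el P ^ 3 = 1 := by
  rw [pow_three, ← el_pcomp h h, ← el_pcomp h (ok_pcomp h h), h3, el_idP]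

theorem a3 : el Pa ^ 3 = 1 := cube oka (by decide +kernel)
theorem b3 : el Pb ^ 3 = 1 := cube okb (by decide +kernel)
theorem c3 : el Pc ^ 3 = 1 := cube okc (by decide +kernel)
theorem z3 : el B ^ 3 = 1 := cube okB (by decide +kernel)

theorem comm {P Q : ℕ} (hP : ok P = true) (hQ : ok Q = true) (h : pcomp P Q = pcomp Q P) :
    el P * el Q = el Q * el P := by
  rw [← el_pcomp hP hQ, h, el_pcomp hQ hP]

theorem ac : el Pa * el Pc = el Pc * el Pa := comm oka okc (by decide +kernel)
theorem bc : el Pb * el Pc = el Pc * el Pb := comm okb okc (by decide +kernel)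
theorem gc : el Pg * el Pc = el Pc * el Pg := comm okg okc (by decide +kernel)

theorem ab : el Pa * el Pb = el Pb * el Pa * el Pc := by
  have h : pcomp Pa Pb = pcomp (pcomp Pb Pa) Pc := by decide +kernel
  rw [← el_pcomp oka okb, ← el_pcomp okb oka, ← el_pcomp (ok_pcomp okb oka) okc, h]

theorem ga : el Pg * el Pa * (el Pg)⁻¹ = el Pb * el Pc ^ (0 : ℤ) := by
  have h : pcomp Pg Pa = pcomp Pb Pg := by decide +kernel
  rw [zpow_zero, mul_one, mul_inv_eq_iff_eq_mul, ← el_pcomp okg oka, ← el_pcomp okb okg, h]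

theorem gb : el Pg * el Pb * (el Pg)⁻¹ = (el Pa)⁻¹ * el Pc ^ (0 : ℤ) := by
  have h0 : pcomp Pa (pcomp Pg Pb) = Pg := by decide +kernel
  have h : el Pa * (el Pg * el Pb) = el Pg := by
    rw [← el_pcomp okg okb, ← el_pcomp oka (ok_pcomp okg okb), h0]
  rw [zpow_zero, mul_one, mul_inv_eq_iff_eq_mul]
  exact eq_inv_mul_iff_mul_eq.2 h

theorem fpf (p : GolayPt) : el B • p ≠ p := by
  intro h
  have h1 := idx_el_smul okB p
  rw [h] at h1
  have h2 : ∀ i, i < 24 → papp B i ≠ i := by decide +kernel
  exact h2 _ (idx_lt p) h1.symm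

theorem fixc : el Pc • pt 1 = pt 1 := by
  rw [el_smul_pt okc]
  decide +kernel

theorem not_conj : ¬ IsConj (el Pc) (el B) := by
  intro h
  obtain ⟨k, hk⟩ := isConj_iff.1 h
  apply fpf (k • pt 1)
  rw [← hk, mul_smul, mul_smul, inv_smul_smul, fixc]

theorem c_ne : el Pc ≠ 1 := by
  intro h
  have h1 : ¬ (∀ i, i < 24 → papp Pc i = i) := by decide +kernel
  apply h1
  intro i hi
  have h2 := el_smul_pt okc (pt i)
  rw [h, one_smul, idx_pt hi] at h2
  have h3 := congrArg idx h2
  rw [idx_pt hi, idx_pt (papp_lt (ok_iff.1 okc).1 hi)] at h3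
  exact h3.symm

theorem z_ne : el B ≠ 1 := by
  intro h
  apply fpf none
  rw [h, one_smul]

end M24Three

open M24Three in
theorem row_m24 {X : Type v} [Group X] [Finite X] (h : Spor.IsoM24 X) : KRow.{u, v} 3 X := by
  have hp3 : Fact (Nat.Prime 3) := ⟨Nat.prime_three⟩
  obtain ⟨e⟩ := h
  refine KRow.congr e.symm ?_
  have hcard : Nat.card M24 = 244823040 := Cfsg.Agent.SporadicA.M24Trans.card_M24
  have hfin : Finite M24 := Nat.finite_of_card_ne_zero (by rw [hcard]; norm_num)
  have hs : IsSimpleGroup M24 := S0365.result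
  have hX : ¬ HasNormalPComplement 3 M24 := by
    refine not_compl_of_simple ⟨el Pa, el Pb, fun h => ?_⟩ ?_
    · apply c_ne
      have h1 := ab
      rw [h] at h1
      exact mul_eq_left.1 h1.symm
    · rw [hcard]
      norm_num
  refine row_of_complete hX (fun σ => ?_) (c := el Pc) (z := el B) (orderOf_eq_prime c3 c_ne)
    (orderOf_eq_prime z3 z_ne) (WX.of_heis (orderOf_eq_prime c3 c_ne) ac bc gc a3 b3 ab ga gb
      (by rw [hcard]; norm_num)) not_conj
  obtain ⟨k, hk⟩ := KFacts.M24Two.Out.exists_conj (σ : MulAut M24)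
  exact ⟨k, fun x => by rw [hk, MulAut.conj_apply]⟩

end m24

end Cfsg.Agent.H820.K6
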