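import Cfsg.Agent.H820.K6.Loc
import Cfsg.Agent.H80.K6.Crit

/-!
# S4876: extraspecial Sylow 3-subgroups of order 27 (helper820)

`Heis C a b c g` : `c` is a central element of order 3 of `C`, `a³ = b³ = 1`, `ab = bac`, `81 ∤ |C|`, and `g` acts on
`⟨a, b⟩` modulo `⟨c⟩` as `a ↦ b ↦ a⁻¹`.  `Heis.rank` : then `4 ≤ l(B₀(C))`.
-/

set_option autoImplicit false

open Cfsg

namespace Cfsg.Agent.H820.K6

open Subgroup
open Cfsg.Agent.H61.K6 Cfsg.Agent.H80.K6

/-- **Burnside** in the form used here. -/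
theorem compl_of_pow {R : Type*} [Group R] [Finite R] {p : ℕ} [hp : Fact p.Prime] (P : Sylow p R)
    (hab : ∀ x ∈ P, ∀ y ∈ P, x * y = y * x)
    (h : ∀ n ∈ normalizer ((P : Subgroup R) : Set R), ∀ y ∈ P, n ^ p * y = y * n ^ p) : HasNormalPComplement p R := by
  have hNC : normalizer ((P : Subgroup R) : Set R) ≤ centralizer ((P : Subgroup R) : Set R) := by
    intro n hn
    rw [mem_centralizer_iff]
    intro y hy
    obtain ⟨k, m, hm, hnm⟩ := Nat.exists_eq_pow_mul_and_not_dvd (orderOf_pos n).ne' p hp.1.ne_one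
    -- the `p`-part
    have hu : n ^ m ∈ (P : Subgroup R) := by
      have hN : n ^ m ∈ normalizer ((P : Subgroup R) : Set R) := pow_mem hn m
      have hp1 : IsPGroup p (zpowers (n ^ m)) := by
        apply IsPGroup.of_card_dvd_pow (n := k)
        rw [Nat.card_zpowers]
        apply orderOf_dvd_of_pow_eq_one
        rw [← pow_mul, mul_comm, ← hnm, pow_orderOf_eq_one]
      have h1 := hp1.inf_normalizer_sylow P
      have h2 : n ^ m ∈ zpowers (n ^ m) ⊓ normalizer (P : Set R) := ⟨mem_zpowers _, hN⟩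
      rw [h1] at h2
      exact h2.2
    have c1 : Commute (n ^ m) y := hab _ hu y hy
    have c2 : Commute (n ^ (p * p ^ k)) y := by
      rw [pow_mul]
      exact (show Commute (n ^ p) y from h n hn y hy).pow_left _
    have hcop : Nat.Coprime m (p * p ^ k) := by
      rw [← pow_succ']
      exact Nat.Coprime.pow_right _ ((hp.1.coprime_iff_not_dvd.2 hm).symm)
    have h3 : n = (n ^ m) ^ (Nat.gcdA m (p * p ^ k)) * (n ^ (p * p ^ k)) ^ (Nat.gcdB m (p * p ^ k)) := by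
      rw [← zpow_natCast, ← zpow_natCast, ← zpow_mul, ← zpow_mul, ← zpow_add, ← Nat.gcd_eq_gcd_ab,
        Nat.Coprime.gcd_eq_one hcop, Nat.cast_one, zpow_one]
    have c3 : Commute n y := by
      rw [h3]
      exact (c1.zpow_left _).mul_left (c2.zpow_left _)
    exact c3.eq.symm
  exact ⟨P, _, inferInstance, MonoidHom.ker_transferSylow_isComplement' P hNC⟩

/-- see the header -/
structure Heis {C : Type*} [Group C] (a b c g : C) : Prop where
  hc : orderOf c = 3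
  cen : ∀ x : C, x * c = c * x
  a3 : a ^ 3 = 1
  b3 : b ^ 3 = 1
  ab : a * b = b * a * c
  ga : ∃ i : ℤ, g * a * g⁻¹ = b * c ^ i
  gb : ∃ i : ℤ, g * b * g⁻¹ = a⁻¹ * c ^ i
  not81 : ¬ 81 ∣ Nat.card C

namespace Heis

variable {C : Type*} [Group C] {a b c g : C}

theorem czc (H : Heis a b c g) (i : ℤ) (x : C) : Commute (c ^ i) x :=
  (show Commute c x from (H.cen x).symm).zpow_left i

/-- the determinant argument -/
theorem det (H : Heis a b c g) {t s n : C} (hts : t * s = s * t * c) {i x y z : ℤ} (h1 : n * t * n⁻¹ = t * c ^ i)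
    (h2 : n * s * n⁻¹ = t ^ x * s ^ y * c ^ z) : (3 : ℤ) ∣ y - 1 := by
  have e1 : t * s * t⁻¹ = s * c := by
    calc t * s * t⁻¹ = s * t * (c * t⁻¹) := by rw [hts]; group
      _ = s * t * (t⁻¹ * c) := by rw [H.cen t⁻¹]
      _ = s * c := by group
  have e2 : t * s ^ y * t⁻¹ = s ^ y * c ^ y := by
    rw [← conj_zpow, e1]
    exact (show Commute s c from H.cen s).mul_zpow y
  have e3 : n * (t * s) * n⁻¹ = n * (s * t * c) * n⁻¹ := by rw [hts]
  have e4 : n * (t * s) * n⁻¹ = t * c ^ i * (t ^ x * s ^ y * c ^ z) := by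
    rw [← h1, ← h2]; group
  have e5 : n * (s * t * c) * n⁻¹ = t ^ x * s ^ y * c ^ z * (t * c ^ i) * c := by
    rw [← h1, ← h2]
    calc n * (s * t * c) * n⁻¹ = n * s * n⁻¹ * (n * t * n⁻¹) * (n * c) * n⁻¹ := by group
      _ = n * s * n⁻¹ * (n * t * n⁻¹) * (c * n) * n⁻¹ := by rw [H.cen n]
      _ = _ := by group
  rw [e4, e5] at e3
  have c1 := H.czc i
  have c2 := H.czc z
  have e6 : t ^ x * (t * s ^ y) * (c ^ i * c ^ z) = t ^ x * (s ^ y * t * c) * (c ^ i * c ^ z) := by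
    calc t ^ x * (t * s ^ y) * (c ^ i * c ^ z) = t * (t ^ x * s ^ y * c ^ i) * c ^ z := by
          rw [show t ^ x * (t * s ^ y) = t * (t ^ x * s ^ y) by
            rw [← mul_assoc, ← mul_assoc, ← zpow_one_add, ← zpow_add_one, add_comm]]
          group
      _ = t * (c ^ i * (t ^ x * s ^ y)) * c ^ z := by rw [(c1 (t ^ x * s ^ y)).eq]
      _ = t * c ^ i * (t ^ x * s ^ y * c ^ z) := by group
      _ = t ^ x * s ^ y * c ^ z * (t * c ^ i) * c := e3
      _ = t ^ x * s ^ y * (c ^ z * t) * c ^ i * c := by group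
      _ = t ^ x * s ^ y * (t * c ^ z) * c ^ i * c := by rw [(c2 t).eq]
      _ = t ^ x * (s ^ y * t * c) * (c ^ i * c ^ z) := by group
  have e7 : t * s ^ y = s ^ y * t * c := mul_left_cancel (mul_right_cancel e6)
  have e8 : s ^ y * c ^ y * t = s ^ y * c * t := by
    calc s ^ y * c ^ y * t = t * s ^ y := by rw [← e2]; group
      _ = s ^ y * t * c := e7
      _ = s ^ y * (t * c) := by group
      _ = s ^ y * (c * t) := by rw [H.cen t]
      _ = _ := by group
  have e9 : c ^ y = c := mul_left_cancel (mul_right_cancel e8)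
  have e10 : c ^ (y - 1) = 1 := by rw [zpow_sub_one, e9, mul_inv_cancel]
  have := orderOf_dvd_iff_zpow_eq_one.2 e10
  rwa [H.hc] at this

end Heis

/-! ### planes -/

/-- independent commuting elements of order 3 -/
structure Pair {Q : Type*} [Group Q] (t s : Q) : Prop where
  comm : t * s = s * t
  t3 : t ^ 3 = 1
  s3 : s ^ 3 = 1
  ind : ∀ i j : ℤ, t ^ i * s ^ j = 1 → (3 : ℤ) ∣ i ∧ (3 : ℤ) ∣ j

namespace Pair

variable {Q : Type*} [Group Q] {t s : Q}

theorem zpow_three {t : Q} (h : t ^ 3 = 1) {i : ℤ} (hi : (3 : ℤ) ∣ i) : t ^ i = 1 := by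
  obtain ⟨k, rfl⟩ := hi
  rw [zpow_mul, show t ^ (3 : ℤ) = t ^ 3 from zpow_natCast t 3, h, one_zpow]

theorem cm (H : Pair t s) (i j : ℤ) : Commute (t ^ i) (s ^ j) :=
  (show Commute t s from H.comm).zpow_zpow i j

/-- the subgroup of order 9 -/
def plane (H : Pair t s) : Subgroup Q where
  carrier := {x | ∃ i j : ℤ, x = t ^ i * s ^ j}
  mul_mem' := by
    rintro _ _ ⟨i, j, rfl⟩ ⟨i', j', rfl⟩
    refine ⟨i + i', j + j', ?_⟩
    rw [zpow_add, zpow_add]
    calc t ^ i * s ^ j * (t ^ i' * s ^ j') = t ^ i * (s ^ j * t ^ i') * s ^ j' := by group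
      _ = t ^ i * (t ^ i' * s ^ j) * s ^ j' := by rw [(H.cm i' j).eq]
      _ = _ := by group
  one_mem' := ⟨0, 0, by simp⟩
  inv_mem' := by
    rintro _ ⟨i, j, rfl⟩
    refine ⟨-i, -j, ?_⟩
    rw [mul_inv_rev, zpow_neg, zpow_neg, ((H.cm i j).inv_inv).eq]

theorem mem_plane (H : Pair t s) {x : Q} : x ∈ H.plane ↔ ∃ i j : ℤ, x = t ^ i * s ^ j := Iff.rfl

theorem t_mem (H : Pair t s) : t ∈ H.plane := ⟨1, 0, by simp⟩
theorem s_mem (H : Pair t s) : s ∈ H.plane := ⟨0, 1, by simp⟩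

theorem plane_comm (H : Pair t s) {x y : Q} (hx : x ∈ H.plane) (hy : y ∈ H.plane) : x * y = y * x := by
  obtain ⟨i, j, rfl⟩ := hx
  obtain ⟨k, l, rfl⟩ := hy
  have c1 : Commute (t ^ i * s ^ j) (t ^ k) := ((Commute.refl t).zpow_zpow i k).mul_left (H.cm k j).symm
  have c2 : Commute (t ^ i * s ^ j) (s ^ l) := (H.cm i l).mul_left ((Commute.refl s).zpow_zpow j l)
  exact (c1.mul_right c2).eq

theorem cube (H : Pair t s) {x : Q} (hx : x ∈ H.plane) : x ^ 3 = 1 := by
  obtain ⟨i, j, rfl⟩ := hx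
  rw [(H.cm i j).mul_pow, ← zpow_natCast, ← zpow_natCast, ← zpow_mul, ← zpow_mul,
    zpow_three H.t3 ⟨i, by push_cast; ring⟩, zpow_three H.s3 ⟨j, by push_cast; ring⟩, one_mul]

theorem card_plane (H : Pair t s) : Nat.card H.plane = 9 := by
  classical
  let F : Fin 3 × Fin 3 → H.plane := fun q => ⟨t ^ ((q.1 : ℕ) : ℤ) * s ^ ((q.2 : ℕ) : ℤ), _, _, rfl⟩
  have hF : Function.Bijective F := by
    constructor
    · rintro ⟨i, j⟩ ⟨i', j'⟩ h
      have h1 : t ^ ((i : ℕ) : ℤ) * s ^ ((j : ℕ) : ℤ) = t ^ ((i' : ℕ) : ℤ) * s ^ ((j' : ℕ) : ℤ) :=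
        congrArg Subtype.val h
      have h2 : t ^ (((i : ℕ) : ℤ) - ((i' : ℕ) : ℤ)) * s ^ (((j : ℕ) : ℤ) - ((j' : ℕ) : ℤ)) = 1 := by
        rw [sub_eq_neg_add, zpow_add, sub_eq_add_neg, zpow_add, zpow_neg, zpow_neg]
        calc (t ^ ((i' : ℕ) : ℤ))⁻¹ * t ^ ((i : ℕ) : ℤ) * (s ^ ((j : ℕ) : ℤ) * (s ^ ((j' : ℕ) : ℤ))⁻¹)
            = (t ^ ((i' : ℕ) : ℤ))⁻¹ * (t ^ ((i : ℕ) : ℤ) * s ^ ((j : ℕ) : ℤ)) * (s ^ ((j' : ℕ) : ℤ))⁻¹ := by group
          _ = 1 := by rw [h1]; group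
      obtain ⟨h3, h4⟩ := H.ind _ _ h2
      have := i.2
      have := i'.2
      have := j.2
      have := j'.2
      have e1 : (i : ℕ) = i' := by omega
      have e2 : (j : ℕ) = j' := by omega
      exact Prod.ext (Fin.ext e1) (Fin.ext e2)
    · rintro ⟨_, i, j, rfl⟩
      refine ⟨(⟨(i % 3).toNat, by omega⟩, ⟨(j % 3).toNat, by omega⟩), Subtype.ext ?_⟩
      change t ^ (((i % 3).toNat : ℕ) : ℤ) * s ^ (((j % 3).toNat : ℕ) : ℤ) = t ^ i * s ^ j
      have key : ∀ (u : Q), u ^ 3 = 1 → ∀ i : ℤ, u ^ (((i % 3).toNat : ℕ) : ℤ) = u ^ i := by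
        intro u hu i
        have h1 : ((((i % 3).toNat : ℕ) : ℤ)) = i - 3 * (i / 3) := by omega
        rw [h1, zpow_sub, zpow_three hu ⟨i / 3, rfl⟩, inv_one, mul_one]
      rw [key t H.t3, key s H.s3]
  rw [← Nat.card_congr (Equiv.ofBijective F hF)]
  simp

/-- the centralizer of `t` has a normal 3-complement -/
theorem compl [Finite Q] (H : Pair t s) (h27 : ¬ 27 ∣ Nat.card Q)
    (hdet : ∀ n : Q, n * t * n⁻¹ = t → (∃ x y : ℤ, n * s * n⁻¹ = t ^ x * s ^ y) → ∃ x : ℤ, n * s * n⁻¹ = t ^ x * s) :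
    HasNormalPComplement 3 ↥(centralizer ({t} : Set Q)) := by
  have hp3 : Fact (Nat.Prime 3) := ⟨Nat.prime_three⟩
  have hle : H.plane ≤ centralizer ({t} : Set Q) := fun x hx =>
    mem_centralizer_singleton_iff.2 (H.plane_comm hx H.t_mem)
  have hind : ¬ 3 ∣ H.plane.index := by
    intro h
    apply h27
    rw [← H.plane.card_mul_index, H.card_plane]
    exact mul_dvd_mul_left 9 h
  let S' : Subgroup ↥(centralizer ({t} : Set Q)) := H.plane.subgroupOf (centralizer ({t} : Set Q))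
  have hS' : IsPGroup 3 S' := by
    rintro ⟨x, hx⟩
    refine ⟨1, Subtype.ext (Subtype.ext ?_)⟩
    have h1 := H.cube (mem_subgroupOf.1 hx)
    simpa using h1
  have hSi : ¬ 3 ∣ S'.index := fun h => hind (h.trans (relIndex_dvd_index_of_le hle))
  let P : Sylow 3 ↥(centralizer ({t} : Set Q)) := hS'.toSylow hSi
  have hP : ∀ x : ↥(centralizer ({t} : Set Q)), x ∈ P ↔ (x : Q) ∈ H.plane := fun x => mem_subgroupOf
  refine compl_of_pow P (fun x hx y hy => Subtype.ext (H.plane_comm ((hP x).1 hx) ((hP y).1 hy))) ?_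
  intro n hn y hy
  have ht : (n : Q) * t * (n : Q)⁻¹ = t := by
    have h1 := mem_centralizer_singleton_iff.1 n.2
    rw [h1, mul_inv_cancel_right]
  let s' : ↥(centralizer ({t} : Set Q)) := ⟨s, hle H.s_mem⟩
  have hs' : n * s' * n⁻¹ ∈ (P : Subgroup ↥(centralizer ({t} : Set Q))) :=
    (mem_normalizer_iff.1 hn s').1 ((hP s').2 H.s_mem)
  obtain ⟨x, y', hxy⟩ := (hP _).1 hs'
  obtain ⟨x, hx⟩ := hdet n ht ⟨x, y', hxy⟩
  have htn : Commute (n : Q) t := mul_inv_eq_iff_eq_mul.1 ht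
  have hns : (n : Q) * s = t ^ x * s * n := by rw [← hx]; group
  have h3 : Commute ((n : Q) ^ 3) s := by
    have e0 : ∀ k : ℤ, (n : Q) * t ^ k = t ^ k * n := fun k => (htn.zpow_right k).eq
    have f : ∀ u : Q, (n : Q) * (t ^ x * u) * (n : Q)⁻¹ = t ^ x * ((n : Q) * u * (n : Q)⁻¹) := by
      intro u
      calc (n : Q) * (t ^ x * u) * (n : Q)⁻¹ = (n * t ^ x) * u * (n : Q)⁻¹ := by group
        _ = (t ^ x * n) * u * (n : Q)⁻¹ := by rw [e0]
        _ = _ := by group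
    have e1 : (n : Q) ^ 3 * s = (t ^ x) ^ 3 * s * (n : Q) ^ 3 := by
      have h1 : (n : Q) ^ 3 * s * ((n : Q) ^ 3)⁻¹ = n * (n * (n * s * (n : Q)⁻¹) * (n : Q)⁻¹) * (n : Q)⁻¹ := by
        rw [show (n : Q) ^ 3 = n * n * n by rw [pow_succ, pow_two]]
        group
      rw [hx, f, hx, f, f, hx] at h1
      rw [← mul_inv_eq_iff_eq_mul, h1]
      group
    have e2 : (t ^ x) ^ 3 = 1 := by
      rw [← zpow_natCast, ← zpow_mul]
      exact zpow_three H.t3 ⟨x, by push_cast; ring⟩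
    rw [e2, one_mul] at e1
    exact e1
  obtain ⟨i, j, hy'⟩ := (hP y).1 hy
  apply Subtype.ext
  change (n : Q) ^ 3 * (y : Q) = (y : Q) * (n : Q) ^ 3
  rw [hy']
  exact (((htn.pow_left 3).zpow_right i).mul_right (h3.zpow_right j)).eq

end Pair

/-! ### the quotient by `⟨c⟩` -/

namespace Heis

variable {C : Type*} [Group C] {a b c g : C}

theorem normal (H : Heis a b c g) : (zpowers c).Normal := by
  refine ⟨fun y hy x => ?_⟩
  obtain ⟨k, rfl⟩ := mem_zpowers_iff.1 hy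
  rw [← (H.czc k x).eq, mul_inv_cancel_right]
  exact hy

/-- `tⁱ sʲ ∈ ⟨c⟩` only if `3 ∣ i, j` -/
theorem ind_aux (H : Heis a b c g) {t s : C} (hts : t * s = s * t * c) {i j : ℤ} (h : t ^ i * s ^ j ∈ zpowers c) :
    (3 : ℤ) ∣ i ∧ (3 : ℤ) ∣ j := by
  obtain ⟨k, hk⟩ := mem_zpowers_iff.1 h
  have e1 : t * s * t⁻¹ = s * c := by
    calc t * s * t⁻¹ = s * t * (c * t⁻¹) := by rw [hts]; group
      _ = s * t * (t⁻¹ * c) := by rw [H.cen t⁻¹]
      _ = s * c := by group
  have e1' : s⁻¹ * t * s = t * c := by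
    calc s⁻¹ * t * s = s⁻¹ * (t * s) := by group
      _ = s⁻¹ * (s * t * c) := by rw [hts]
      _ = t * c := by group
  constructor
  · -- conjugate by `s`
    have e2 : s⁻¹ * (t ^ i * s ^ j) * s = t ^ i * s ^ j * c ^ i := by
      have h1 : s⁻¹ * t ^ i * s = t ^ i * c ^ i := by
        have h2 : s⁻¹ * t ^ i * s = (s⁻¹ * t * s) ^ i := by
          have := conj_zpow (a := s⁻¹) (b := t) (i := i)
          rw [inv_inv] at this
          exact this.symm
        rw [h2, e1']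
        exact (show Commute t c from H.cen t).mul_zpow i
      calc s⁻¹ * (t ^ i * s ^ j) * s = (s⁻¹ * t ^ i * s) * s ^ j := by group
        _ = t ^ i * (c ^ i * s ^ j) := by rw [h1]; group
        _ = t ^ i * (s ^ j * c ^ i) := by rw [(H.czc i (s ^ j)).eq]
        _ = _ := by group
    rw [← hk] at e2
    have e3 : s⁻¹ * c ^ k * s = c ^ k := by
      rw [← (H.czc k s⁻¹).eq]; group
    rw [e3] at e2
    have e4 : c ^ i = 1 := mul_left_cancel (a := c ^ k) (by rw [← e2, mul_one])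
    have := orderOf_dvd_iff_zpow_eq_one.2 e4
    rwa [H.hc] at this
  · have e2 : t * (t ^ i * s ^ j) * t⁻¹ = t ^ i * s ^ j * c ^ j := by
      have h1 : t * s ^ j * t⁻¹ = s ^ j * c ^ j := by
        rw [← conj_zpow, e1]
        exact (show Commute s c from H.cen s).mul_zpow j
      calc t * (t ^ i * s ^ j) * t⁻¹ = t ^ i * (t * s ^ j * t⁻¹) := by
            rw [← mul_assoc, ← zpow_one_add, add_comm, zpow_add_one]; group
        _ = _ := by rw [h1]; group
    rw [← hk] at e2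
    have e3 : t * c ^ k * t⁻¹ = c ^ k := by
      rw [← (H.czc k t).eq]; group
    rw [e3] at e2
    have e4 : c ^ j = 1 := mul_left_cancel (a := c ^ k) (by rw [← e2, mul_one])
    have := orderOf_dvd_iff_zpow_eq_one.2 e4
    rwa [H.hc] at this

/-- the image of a pair `t, s` with `[t, s] = c` -/
theorem pair (H : Heis a b c g) [(zpowers c).Normal] {t s : C} (hts : t * s = s * t * c)
    (ht : t ^ 3 ∈ zpowers c) (hs : s ^ 3 ∈ zpowers c) :
    Pair (t : C ⧸ zpowers c) (s : C ⧸ zpowers c) where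
  comm := by
    rw [← QuotientGroup.mk_mul, ← QuotientGroup.mk_mul, QuotientGroup.eq, hts]
    have : (s * t * c)⁻¹ * (s * t) = c⁻¹ := by group
    rw [this]
    exact inv_mem (mem_zpowers c)
  t3 := by rw [← QuotientGroup.mk_pow, QuotientGroup.eq_one_iff]; exact ht
  s3 := by rw [← QuotientGroup.mk_pow, QuotientGroup.eq_one_iff]; exact hs
  ind := by
    intro i j h
    rw [← QuotientGroup.mk_zpow, ← QuotientGroup.mk_zpow, ← QuotientGroup.mk_mul, QuotientGroup.eq_one_iff] at h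
    exact H.ind_aux hts h

theorem card_quot (H : Heis a b c g) [Finite C] [(zpowers c).Normal] :
    Nat.card C = Nat.card (C ⧸ zpowers c) * 3 := by
  rw [card_eq_card_quotient_mul_card_subgroup (zpowers c), Nat.card_zpowers, H.hc]

/-- the centralizer of the image of `t` has a normal 3-complement -/
theorem compl_quot (H : Heis a b c g) [Finite C] [(zpowers c).Normal] {t s : C} (hts : t * s = s * t * c)
    (ht : t ^ 3 ∈ zpowers c) (hs : s ^ 3 ∈ zpowers c) :
    HasNormalPComplement 3 ↥(centralizer ({(t : C ⧸ zpowers c)} : Set (C ⧸ zpowers c))) := by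
  have P := H.pair hts ht hs
  refine P.compl ?_ ?_
  · intro h
    apply H.not81
    rw [H.card_quot]
    exact mul_dvd_mul h (dvd_refl 3)
  · intro n hn1 ⟨x, y, hxy⟩
    obtain ⟨n, rfl⟩ := QuotientGroup.mk_surjective n
    have key : ∀ u v : C, (u : C ⧸ zpowers c) = (v : C ⧸ zpowers c) → ∃ i : ℤ, u = v * c ^ i := by
      intro u v h
      obtain ⟨i, hi⟩ := mem_zpowers_iff.1 (QuotientGroup.eq.1 h.symm)
      exact ⟨i, by rw [hi]; group⟩
    obtain ⟨i, hi⟩ := key (n * t * n⁻¹) t hn1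
    obtain ⟨z, hz⟩ := key (n * s * n⁻¹) (t ^ x * s ^ y) hxy
    have h3 := H.det hts hi hz
    refine ⟨x, ?_⟩
    rw [hxy]
    have h4 : (s : C ⧸ zpowers c) ^ y = (s : C ⧸ zpowers c) ^ (y - 1) * s := by
      rw [← zpow_add_one, sub_add_cancel]
    rw [h4, Pair.zpow_three P.s3 h3, one_mul]

/-- **`l(B₀(C)) ≥ 4`.** -/
theorem rank (H : Heis a b c g) [Finite C] {M : Ideal AlgInt} (hM : IsPModular 3 M) :
    4 ≤ blockRank 3 (principalBlock M C) := by
  classical
  have hp3 : Fact (Nat.Prime 3) := ⟨Nat.prime_three⟩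
  have hn := H.normal
  have h1c : (1 : C) ∈ zpowers c := one_mem _
  have ha : a ^ 3 ∈ zpowers c := by rw [H.a3]; exact h1c
  have hb : b ^ 3 ∈ zpowers c := by rw [H.b3]; exact h1c
  have P := H.pair H.ab ha hb
  have h9 : 9 ∣ Nat.card (C ⧸ zpowers c) := by
    rw [← P.card_plane]
    exact card_subgroup_dvd_card _
  have h27 : ¬ 27 ∣ Nat.card (C ⧸ zpowers c) := by
    intro h
    apply H.not81
    rw [H.card_quot]
    exact mul_dvd_mul h (dvd_refl 3)
  -- the pair `a b`, `b`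
  have hab' : a * b * b = b * (a * b) * c := by
    calc a * b * b = b * a * c * b := by rw [H.ab]
      _ = b * a * (c * b) := by group
      _ = b * a * (b * c) := by rw [H.cen b]
      _ = _ := by group
  have hab3 : (a * b) ^ 3 ∈ zpowers c := by
    rw [← QuotientGroup.eq_one_iff, QuotientGroup.mk_pow, QuotientGroup.mk_mul,
      (show Commute (a : C ⧸ zpowers c) b from P.comm).mul_pow, P.t3, P.s3, one_mul]
  have c1 := H.compl_quot H.ab ha hb
  have c2 := H.compl_quot hab' hab3 hb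
  -- the classes
  have hcov : ∀ x : C ⧸ zpowers c, El 3 x → ∃ t ∈ ({(a : C ⧸ zpowers c), ((a * b : C) : C ⧸ zpowers c)} :
      Finset (C ⧸ zpowers c)), IsConj x t := by
    intro x hx
    obtain ⟨⟨k, hk⟩, hx1⟩ := hx
    have hind : ¬ 3 ∣ P.plane.index := by
      intro h
      apply h27
      rw [← P.plane.card_mul_index, P.card_plane]
      exact mul_dvd_mul_left 9 h
    have hpl : IsPGroup 3 P.plane := by
      rintro ⟨y, hy⟩
      exact ⟨1, Subtype.ext (by simpa using P.cube hy)⟩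
    let S : Sylow 3 (C ⧸ zpowers c) := hpl.toSylow hind
    have hzp : IsPGroup 3 (zpowers x) := IsPGroup.of_card (n := k) (by rw [Nat.card_zpowers, hk])
    obtain ⟨T, hT⟩ := hzp.exists_le_sylow
    obtain ⟨u, hu⟩ := MulAction.exists_smul_eq (C ⧸ zpowers c) T S
    have hxS : u * x * u⁻¹ ∈ P.plane := by
      have h1 : u * x * u⁻¹ ∈ (u • T : Sylow 3 (C ⧸ zpowers c)) := by
        have h2 : x ∈ T := hT (mem_zpowers x)
        exact Subgroup.smul_mem_pointwise_smul x (MulAut.conj u) (T : Subgroup (C ⧸ zpowers c)) h2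
      rw [hu] at h1
      exact h1
    have hcj : IsConj x (u * x * u⁻¹) := isConj_iff.2 ⟨u, rfl⟩
    have hne : u * x * u⁻¹ ≠ 1 := by
      intro h
      apply hx1
      rw [mul_inv_eq_one] at h
      exact mul_left_cancel (a := u) (by rw [h, mul_one])
    -- the action of `g`
    obtain ⟨i, hi⟩ := H.ga
    obtain ⟨j, hj⟩ := H.gb
    have hcz : ∀ i : ℤ, ((c ^ i : C) : C ⧸ zpowers c) = 1 := fun i =>
      (QuotientGroup.eq_one_iff _).2 (zpow_mem (mem_zpowers c) i)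
    have ga : (g : C ⧸ zpowers c) * a * (g : C ⧸ zpowers c)⁻¹ = b := by
      have := congrArg (fun y : C => (y : C ⧸ zpowers c)) hi
      simpa only [QuotientGroup.mk_mul, QuotientGroup.mk_inv, hcz, mul_one] using this
    have gb : (g : C ⧸ zpowers c) * b * (g : C ⧸ zpowers c)⁻¹ = (a : C ⧸ zpowers c)⁻¹ := by
      have := congrArg (fun y : C => (y : C ⧸ zpowers c)) hj
      simpa only [QuotientGroup.mk_mul, QuotientGroup.mk_inv, hcz, mul_one] using this
    have step : ∀ y y' : C ⧸ zpowers c, (g : C ⧸ zpowers c) * y * (g : C ⧸ zpowers c)⁻¹ = y' → IsConj y y' :=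
      fun y y' h => isConj_iff.2 ⟨_, h⟩
    have cA : ∀ y z : C ⧸ zpowers c, (g : C ⧸ zpowers c) * (y * z) * (g : C ⧸ zpowers c)⁻¹ =
        (g * y * (g : C ⧸ zpowers c)⁻¹) * (g * z * (g : C ⧸ zpowers c)⁻¹) := by intro y z; group
    have cI : ∀ y : C ⧸ zpowers c, (g : C ⧸ zpowers c) * y⁻¹ * (g : C ⧸ zpowers c)⁻¹ =
        (g * y * (g : C ⧸ zpowers c)⁻¹)⁻¹ := by intro y; group
    set A : C ⧸ zpowers c := (a : C ⧸ zpowers c) with hA
    set B : C ⧸ zpowers c := (b : C ⧸ zpowers c) with hB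
    have q1 : IsConj A B := step _ _ ga
    have q2 : IsConj B A⁻¹ := step _ _ gb
    have q3 : IsConj A⁻¹ B⁻¹ := step _ _ (by rw [cI, ga])
    have r1 : IsConj (A * B) (B * A⁻¹) := step _ _ (by rw [cA, ga, gb])
    have r2 : IsConj (B * A⁻¹) (A⁻¹ * B⁻¹) := step _ _ (by rw [cA, cI, ga, gb])
    have r3 : IsConj (A⁻¹ * B⁻¹) (B⁻¹ * A) := step _ _ (by rw [cA, cI, cI, ga, gb, inv_inv])
    have hcomm : Commute A B := P.comm
    obtain ⟨m, n, hmn⟩ := P.mem_plane.1 hxS
    have hm : A ^ m = A ^ (m % 3) := by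
      conv_lhs => rw [← Int.emod_add_mul_ediv m 3]
      rw [zpow_add, Pair.zpow_three P.t3 ⟨m / 3, rfl⟩, mul_one]
    have hn' : B ^ n = B ^ (n % 3) := by
      conv_lhs => rw [← Int.emod_add_mul_ediv n 3]
      rw [zpow_add, Pair.zpow_three P.s3 ⟨n / 3, rfl⟩, mul_one]
    rw [hm, hn'] at hmn
    have hA2 : A ^ (2 : ℤ) = A⁻¹ := by
      rw [eq_inv_iff_mul_eq_one, ← zpow_add_one]
      exact Pair.zpow_three P.t3 (by norm_num)
    have hB2 : B ^ (2 : ℤ) = B⁻¹ := by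
      rw [eq_inv_iff_mul_eq_one, ← zpow_add_one]
      exact Pair.zpow_three P.s3 (by norm_num)
    have m3 : m % 3 = 0 ∨ m % 3 = 1 ∨ m % 3 = 2 := by omega
    have n3 : n % 3 = 0 ∨ n % 3 = 1 ∨ n % 3 = 2 := by omega
    have memA : A ∈ ({A, ((a * b : C) : C ⧸ zpowers c)} : Finset (C ⧸ zpowers c)) := Finset.mem_insert_self _ _
    have memAB : A * B ∈ ({A, ((a * b : C) : C ⧸ zpowers c)} : Finset (C ⧸ zpowers c)) :=
      Finset.mem_insert_of_mem (Finset.mem_singleton_self _)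
    rcases m3 with hm3 | hm3 | hm3 <;> rcases n3 with hn3 | hn3 | hn3 <;> rw [hm3, hn3] at hmn
    · rw [zpow_zero, zpow_zero, one_mul] at hmn
      exact absurd hmn hne
    · rw [zpow_zero, zpow_one, one_mul] at hmn
      exact ⟨A, memA, hcj.trans (hmn ▸ q1.symm)⟩
    · rw [zpow_zero, hB2, one_mul] at hmn
      exact ⟨A, memA, hcj.trans (hmn ▸ (q1.trans (q2.trans q3)).symm)⟩
    · rw [zpow_one, zpow_zero, mul_one] at hmn
      exact ⟨A, memA, hcj.trans (hmn ▸ IsConj.refl _)⟩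
    · rw [zpow_one, zpow_one] at hmn
      exact ⟨A * B, memAB, hcj.trans (hmn ▸ IsConj.refl _)⟩
    · rw [zpow_one, hB2] at hmn
      refine ⟨A * B, memAB, hcj.trans ?_⟩
      rw [hmn, hcomm.inv_right.eq]
      exact (r1.trans (r2.trans r3)).symm
    · rw [hA2, zpow_zero, mul_one] at hmn
      exact ⟨A, memA, hcj.trans (hmn ▸ (q1.trans q2).symm)⟩
    · rw [hA2, zpow_one] at hmn
      refine ⟨A * B, memAB, hcj.trans ?_⟩
      rw [hmn, hcomm.inv_left.eq]
      exact r1.symm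
    · rw [hA2, hB2] at hmn
      exact ⟨A * B, memAB, hcj.trans (hmn ▸ (r1.trans r2).symm)⟩
  have h := six_le_rank_add (p := 3) (by norm_num) hM (Q := C ⧸ zpowers c) (by norm_num; exact h9)
    {(a : C ⧸ zpowers c), ((a * b : C) : C ⧸ zpowers c)} hcov
    (fun x hx => by
      rcases Finset.mem_insert.1 hx with rfl | hx
      · exact c1
      · rw [Finset.mem_singleton.1 hx]
        exact c2)
  have h2 : ({(a : C ⧸ zpowers c), ((a * b : C) : C ⧸ zpowers c)} : Finset (C ⧸ zpowers c)).card ≤ 2 :=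
    Finset.card_le_two
  have h3 := rank_le_of_surj hM (QuotientGroup.mk' (zpowers c)) (QuotientGroup.mk'_surjective _)
  omega

end Heis

end Cfsg.Agent.H820.K6
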