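import Mathlib
import Cfsg.Agent.UGT.A7.Five

/-!
# S4876, sporadic rows, `p = 3`: a group of order 1080 with quotient `A₆` (helper820)

`surj_of_five` : a group `C` of order 1080 with a central element of order 3, a subgroup `H ≃ A₅` and an element of
order 5 of `H` whose centralizer has order not divisible by 9 maps onto `A₆`.
`exists_central` : an element of order `p` centralized by a Sylow subgroup.
-/

set_option autoImplicit false

namespace Cfsg.Agent.H820.K6

open Subgroup
open scoped commutatorElement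

/-- an element of order `p` whose centralizer has order divisible by the full power of `p` -/
theorem exists_central {X : Type*} [Group X] [Finite X] {p n : ℕ} [hp : Fact p.Prime] (hn : n ≠ 0)
    (h : p ^ n ∣ Nat.card X) : ∃ y : X, orderOf y = p ∧ p ^ n ∣ Nat.card ↥(centralizer ({y} : Set X)) := by
  obtain ⟨P⟩ : Nonempty (Sylow p X) := inferInstance
  have hP : p ^ n ∣ Nat.card (P : Subgroup X) := by
    rw [P.card_eq_multiplicity]
    exact Nat.pow_dvd_pow p ((hp.1.pow_dvd_iff_le_factorization Nat.card_pos.ne').1 h)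
  have hnt : Nontrivial (P : Subgroup X) := by
    rw [← Finite.one_lt_card_iff_nontrivial]
    refine lt_of_lt_of_le (Nat.one_lt_pow hn hp.1.one_lt) (Nat.le_of_dvd Nat.card_pos hP)
  have hZ := P.isPGroup'.center_nontrivial
  have hZp : IsPGroup p (center (P : Subgroup X)) := P.isPGroup'.to_subgroup _
  obtain ⟨k, hk0, hk⟩ := hZp.nontrivial_iff_card.1 hZ
  have hd : p ∣ Nat.card (center (P : Subgroup X)) := by
    rw [hk]
    exact dvd_pow_self p hk0.ne'
  obtain ⟨z, hz⟩ := exists_prime_orderOf_dvd_card' p hd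
  refine ⟨((z : (P : Subgroup X)) : X), by rw [orderOf_coe, orderOf_coe]; exact hz, hP.trans (card_dvd_of_le ?_)⟩
  intro g hg
  rw [mem_centralizer_singleton_iff]
  exact congrArg Subtype.val (mem_center_iff.1 z.2 ⟨g, hg⟩)

/-- `|C|` divides `120 |C_C(H)|` if `H ≃ A₅` is normal -/
theorem dvd_of_normal {C : Type*} [Group C] [Finite C] {H : Subgroup C} [hH : H.Normal]
    (e : H ≃* alternatingGroup (Fin 5)) : Nat.card C ∣ 120 * Nat.card ↥(centralizer (H : Set C)) := by
  obtain ⟨ψ, hψ⟩ := UGT.A7.Dg.exists_autHom5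
  let A : MulAut H →* MulAut (alternatingGroup (Fin 5)) :=
    { toFun := fun f => (e.symm.trans f).trans e
      map_one' := by ext x : 1; simp
      map_mul' := fun f g => by
        ext x : 1
        simp [MulEquiv.trans_apply] }
  let f : C →* Equiv.Perm (Fin 5) := (ψ.comp A).comp (MulAut.conjNormal : C →* MulAut H)
  have hker : f.ker = centralizer (H : Set C) := by
    ext c
    rw [MonoidHom.mem_ker]
    constructor
    · intro hc
      rw [mem_centralizer_iff]
      intro x hx
      have h1 := hψ (A (MulAut.conjNormal c)) (e ⟨x, hx⟩)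
      have h2 : ψ (A (MulAut.conjNormal c)) = 1 := hc
      rw [h2, one_mul, inv_one, mul_one] at h1
      have h3 : e (MulAut.conjNormal c (e.symm (e ⟨x, hx⟩))) = e ⟨x, hx⟩ := Subtype.ext h1
      rw [e.symm_apply_apply] at h3
      have h4 := congrArg Subtype.val (e.injective h3)
      rw [MulAut.conjNormal_apply] at h4
      change c * x * c⁻¹ = x at h4
      calc x * c = c * x * c⁻¹ * c := by rw [h4]
        _ = c * x := by group
    · intro hc
      have h2 : MulAut.conjNormal c = (1 : MulAut H) := by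
        ext x
        rw [MulAut.conjNormal_apply, MulAut.one_apply]
        have h3 := mem_centralizer_iff.1 hc x x.2
        rw [← h3]
        group
      change (ψ.comp A) (MulAut.conjNormal c) = 1
      rw [h2, map_one]
  have h1 := f.ker.card_mul_index
  rw [index_ker, hker] at h1
  have h2 : Nat.card f.range ∣ 120 := by
    have h3 := card_subgroup_dvd_card f.range
    rw [Nat.card_eq_fintype_card (α := Equiv.Perm (Fin 5)), Fintype.card_perm, Fintype.card_fin] at h3
    exact h3
  rw [← h1, mul_comm]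
  exact Nat.mul_dvd_mul_right h2 _

theorem surj_of_five {C : Type*} [Group C] [Finite C] (hC : Nat.card C = 1080) {d : C} (hd : orderOf d = 3)
    (hdc : ∀ x : C, x * d = d * x) {H : Subgroup C} (e : H ≃* alternatingGroup (Fin 5)) {w : C} (hw : w ∈ H)
    (h9 : ¬ 9 ∣ Nat.card ↥(centralizer ({w} : Set C))) :
    ∃ φ : C →* alternatingGroup (Fin 6), Function.Surjective φ := by
  classical
  have hsimp : IsSimpleGroup H := by
    have := alternatingGroup.isSimpleGroup (α := Fin 5) (by simp)
    exact MulEquiv.isSimpleGroup e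
  have hcH : Nat.card H = 60 := by
    rw [Nat.card_congr e.toEquiv, nat_card_alternatingGroup]
    norm_num [Nat.factorial]
  let D : Subgroup C := zpowers d
  have hDc : Nat.card D = 3 := by rw [Nat.card_zpowers, hd]
  have hDcen : ∀ y ∈ D, ∀ x : C, x * y = y * x := by
    rintro y ⟨k, rfl⟩ x
    have : Commute x d := hdc x
    exact this.zpow_right k
  have hDn : D.Normal := ⟨fun y hy x => by rw [hDcen y hy x, mul_assoc, mul_inv_cancel, mul_one]; exact hy⟩
  -- a normal subgroup meets `H` in `1` or `H`
  have key : ∀ N : Subgroup C, N.Normal → N ⊓ H = ⊥ ∨ H ≤ N := by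
    intro N hN
    have h1 : (N.subgroupOf H).Normal := hN.subgroupOf H
    rcases h1.eq_bot_or_eq_top with h2 | h2
    · left
      rw [subgroupOf_eq_bot] at h2
      exact h2.eq_bot
    · right
      exact subgroupOf_eq_top.1 h2
  have hDH : Disjoint H D := by
    rcases key D hDn with h1 | h1
    · rw [disjoint_iff, inf_comm]
      exact h1
    · have := card_le_of_le h1
      rw [hcH, hDc] at this
      omega
  let L : Subgroup C := H ⊔ D
  have hHL : H ≤ L := le_sup_left
  have hDL : D ≤ L := le_sup_right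
  have hrel : D.relIndex L = 60 := by
    rw [show D.relIndex L = D.relIndex H from relIndex_sup_right H D, ← inf_relIndex_right, inf_comm,
      disjoint_iff.1 hDH, relIndex_bot_left, hcH]
  have hDi : D.index = 360 := by
    have h1 := D.card_mul_index
    rw [hDc, hC] at h1
    omega
  have hLi : L.index = 6 := by
    have h1 := relIndex_mul_index hDL
    rw [hrel, hDi] at h1
    omega
  have hHi : H.index = 18 := by
    have h1 := H.card_mul_index
    rw [hcH, hC] at h1
    omega
  have hHr : H.relIndex L = 3 := by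
    have h1 := relIndex_mul_index hHL
    rw [hLi, hHi] at h1
    omega
  let N : Subgroup C := L.normalCore
  have hN : N.Normal := inferInstance
  have hDN : D ≤ N := normal_le_normalCore.2 hDL
  rcases key N hN with h1 | h1
  · have hN3 : Nat.card N ≤ 3 := by
      have h2 : H.relIndex N ≤ H.relIndex L :=
        relIndex_le_of_le_right L.normalCore_le (by rw [hHr]; norm_num)
      rw [← inf_relIndex_right, inf_comm, h1, relIndex_bot_left, hHr] at h2
      exact h2
    have hN3' : Nat.card N = 3 := le_antisymm hN3 (by rw [← hDc]; exact card_le_of_le hDN)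
    have hcard6 : Nat.card (C ⧸ L) = 6 := hLi
    let ε : (C ⧸ L) ≃ Fin 6 := (Finite.equivFinOfCardEq hcard6)
    let f : C →* Equiv.Perm (Fin 6) := ε.permCongrHom.toMonoidHom.comp (MulAction.toPermHom C (C ⧸ L))
    have hfk : f.ker = N := by
      rw [show N = (MulAction.toPermHom C (C ⧸ L)).ker from normalCore_eq_ker L]
      ext x
      rw [MonoidHom.mem_ker, MonoidHom.mem_ker]
      change ε.permCongrHom (MulAction.toPermHom C (C ⧸ L) x) = 1 ↔ _
      exact map_eq_one_iff _ ε.permCongrHom.injective
    have hfr : Nat.card f.range = 360 := by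
      rw [← index_ker, hfk]
      have h2 := N.card_mul_index
      rw [hN3', hC] at h2
      omega
    have hfi : f.range.index = 2 := by
      have h2 := f.range.card_mul_index
      rw [hfr, Nat.card_eq_fintype_card, Fintype.card_perm, Fintype.card_fin] at h2
      norm_num [Nat.factorial] at h2
      omega
    have hfa : f.range = alternatingGroup (Fin 6) := Equiv.Perm.eq_alternatingGroup_of_index_eq_two hfi
    refine ⟨f.codRestrict (alternatingGroup (Fin 6)) fun x => by rw [← hfa]; exact ⟨x, rfl⟩, ?_⟩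
    rintro ⟨y, hy⟩
    rw [← hfa] at hy
    obtain ⟨x, hx⟩ := hy
    exact ⟨x, Subtype.ext hx⟩
  · exfalso
    have hLN : L = N := le_antisymm (sup_le h1 hDN) L.normalCore_le
    have hLn : L.Normal := hLN ▸ hN
    have hmul : ∀ x ∈ L, ∃ a ∈ H, ∃ b ∈ D, x = a * b := by
      intro x hx
      obtain ⟨a, ha, b, hb, h2⟩ := mem_sup_of_normal_right.1 hx
      exact ⟨a, ha, b, hb, h2.symm⟩
    have hcomm : ⁅L, L⁆ ≤ H := by
      rw [commutator_le]
      intro x hx y hy
      obtain ⟨a, ha, b, hb, rfl⟩ := hmul x hx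
      obtain ⟨a', ha', b', hb', rfl⟩ := hmul y hy
      have h2 : ⁅a * b, a' * b'⁆ = ⁅a, a'⁆ := by
        have c1 := hDcen b hb
        have c2 := hDcen b' hb'
        rw [commutatorElement_def, commutatorElement_def, mul_inv_rev, mul_inv_rev]
        have e1 : b⁻¹ * a⁻¹ = a⁻¹ * b⁻¹ := (hDcen b⁻¹ (inv_mem hb) a⁻¹).symm
        have e2 : b'⁻¹ * a'⁻¹ = a'⁻¹ * b'⁻¹ := (hDcen b'⁻¹ (inv_mem hb') a'⁻¹).symm
        rw [e1, e2]
        calc a * b * (a' * b') * (a⁻¹ * b⁻¹) * (a'⁻¹ * b'⁻¹)
            = a * (b * a') * (b' * a⁻¹) * (b⁻¹ * a'⁻¹) * b'⁻¹ := by group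
          _ = a * (a' * b) * (a⁻¹ * b') * (a'⁻¹ * b⁻¹) * b'⁻¹ := by
            rw [← c1 a', ← c2 a⁻¹, ← hDcen b⁻¹ (inv_mem hb) a'⁻¹]
          _ = a * a' * (b * a⁻¹) * (b' * a'⁻¹) * b⁻¹ * b'⁻¹ := by group
          _ = a * a' * (a⁻¹ * b) * (a'⁻¹ * b') * b⁻¹ * b'⁻¹ := by rw [← c1 a⁻¹, ← c2 a'⁻¹]
          _ = a * a' * a⁻¹ * (b * a'⁻¹) * (b' * b⁻¹) * b'⁻¹ := by group
          _ = a * a' * a⁻¹ * (a'⁻¹ * b) * (b⁻¹ * b') * b'⁻¹ := by
            rw [← c1 a'⁻¹, ← hDcen b' hb' b⁻¹]
          _ = a * a' * a⁻¹ * a'⁻¹ := by group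
      rw [h2]
      exact H.mul_mem (H.mul_mem (H.mul_mem ha ha') (inv_mem ha)) (inv_mem ha')
    have hHn : H.Normal := by
      have h2 : (⁅L, L⁆).Normal := inferInstance
      rcases key ⁅L, L⁆ h2 with h3 | h3
      · exfalso
        have h4 : ⁅L, L⁆ = ⊥ := by
          rw [← h3]
          exact (inf_eq_left.2 hcomm).symm
        have h5 : ∀ x y : H, x * y = y * x := by
          intro x y
          apply Subtype.ext
          have h6 : ⁅(x : C), (y : C)⁆ ∈ ⁅L, L⁆ := commutator_mem_commutator (hHL x.2) (hHL y.2)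
          rw [h4, mem_bot] at h6
          exact commutatorElement_eq_one_iff_mul_comm.1 h6
        let _ : CommGroup H := { (inferInstance : Group H) with mul_comm := h5 }
        have h6 := IsSimpleGroup.prime_card (α := H)
        rw [hcH] at h6
        norm_num at h6
      · have h4 : H = ⁅L, L⁆ := le_antisymm h3 hcomm
        rw [h4]
        exact h2
    have h2 := dvd_of_normal e
    have h3 : Nat.card ↥(centralizer (H : Set C)) ∣ Nat.card ↥(centralizer ({w} : Set C)) :=
      card_dvd_of_le (centralizer_le (Set.singleton_subset_iff.2 hw))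
    rw [hC] at h2
    apply h9
    refine Dvd.dvd.trans ?_ h3
    have h4 : 120 * 9 ∣ 120 * Nat.card ↥(centralizer (H : Set C)) := h2
    exact Nat.dvd_of_mul_dvd_mul_left (by norm_num) h4

end Cfsg.Agent.H820.K6
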